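import Groth.Agent.Lib.NormAmple.Basic
import Groth.Agent.H97.GlueLine

/-!
# Norms of invertible modules
-/

noncomputable section

universe u

open CategoryTheory CategoryTheory.Limits AlgebraicGeometry Opposite TopologicalSpace

namespace Groth.Agent.Lib.NormAmple.Bundle

open TensorMod TensorMod.Basic TensorMod.Dual TensorMod.Gen TensorMod.Pullback Ample.GenLocus Ample.Pow Ample.Extend Ample.Basis
  Groth.Agent.H97 NormAmple.Basic

variable {X Y : Scheme.{u}} {π : X ⟶ Y}

/-- Frames for the pullback of an invertible module. -/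
theorem exists_frames_pullback {d : ℕ} (N : Nrm.NormOfDegree π d) (hsurj : Function.Surjective π.base)
    {M : Y.Modules} (hM : PicF.IsInvertible M) :
    Nonempty (Frames (ofNorm N hsurj) ((pb π).obj M) (CohB1.tensorPow M d)) := by
  choose U e hxU he using isInvertible_iff.1 hM
  exact ⟨{
    ι := Y
    W := U
    cover := fun y => ⟨y, hxU y⟩
    e := fun y => unitSec π M (e y)
    gen := fun y => isGen_unitSec π (he y)
    E := fun y => powSec (e y) d
    genE := fun y => isGen_powSec (he y) d
    compat := fun k l V hk hl a ha => by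
      obtain ⟨c, hc⟩ := exists_coord ((he k).res hk) (rs M hl (e l))
      have h1 : rs ((pb π).obj M) (π.preimage_mono hl) (unitSec π M (e l)) =
          π.app V c • rs ((pb π).obj M) (π.preimage_mono hk) (unitSec π M (e k)) := by
        refine (unitSec_rs π hl (e l)).trans ?_
        rw [hc, unitSec_smul]
        exact congrArg (π.app V c • ·) (unitSec_rs π hk (e k)).symm
      have hca : π.app V c = a := by
        have hg := ((isGen_unitSec π (he k)).res (π.preimage_mono hk)) _ le_rfl
        exact hg.1 (by simpa only [rs_self] using h1.symm.trans ha)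
      change rs _ hl (powSec (e l) d) = N.norm V a • rs _ hk (powSec (e k) d)
      rw [rs_powSec, rs_powSec, hc, powSec_smul, ← hca, N.norm_app] }⟩

theorem isAmple_of_pullback [IsFinite π] {d : ℕ} (N : Nrm.NormOfDegree π d) {M : Y.Modules}
    (hM : PicF.IsInvertible M) (h : CohB1.IsAmple ((pb π).obj M)) : CohB1.IsAmple M := by
  have hsurj := surjective_of_norm N π.isClosedMap
  obtain ⟨D⟩ := exists_frames_pullback N hsurj hM
  exact (isAmple_tensorPow_iff hM N.one_le).2
    (isAmple_of_frames hsurj D h (Invertible.isInvertible_tensorPow hM d))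

/-- An invertible module is trivial near each fibre of a finite morphism. -/
theorem exists_frame_fibre [IsFinite π] {L : X.Modules} (hL : PicF.IsInvertible L) (y : Y) :
    ∃ (W : Y.Opens) (e : Γ(L, π ⁻¹ᵁ W)), y ∈ W ∧ IsGen L (π ⁻¹ᵁ W) e := by
  obtain ⟨V, hV, hyV, -⟩ := exists_isAffineOpen_mem_and_subset (X := Y) (x := y) (U := ⊤) trivial
  have hV' : IsAffineOpen (π ⁻¹ᵁ V) := hV.preimage π
  obtain ⟨g, e, hg, -, he⟩ := TensorMod.FinsetTriv.exists_basis_basicOpen hV'
    (TensorMod.LocFree.of_isInvertible hL) (π.finite_preimage_singleton y)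
    (fun x hx => show π x ∈ V from (show π x = y from hx) ▸ hyV) (O := ⊤) (fun _ _ => trivial)
  obtain ⟨W, hyW, hW⟩ := exists_nhd_of_fibre π.isClosedMap (O := X.basicOpen g) fun x hx => hg hx
  refine ⟨W, rs L hW (e 0), hyW, IsGen.res (U := X.basicOpen g) (fun U hU => ?_) hW⟩
  have hb : (fun a : Fin 1 → Γ(X, U) => TensorMod.Basis.comb e hU a) =
      (fun a : Γ(X, U) => a • rs L hU (e 0)) ∘ (Equiv.funUnique (Fin 1) Γ(X, U)) := by
    funext a
    simp [TensorMod.Basis.comb]
  refine (Function.Bijective.of_comp_iff _ (Equiv.bijective (Equiv.funUnique (Fin 1) Γ(X, U)))).1 ?_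
  rw [← hb]
  exact he U hU

/-- The norm of an invertible module. -/
theorem exists_frames [IsFinite π] (N : PreNorm π) {L : X.Modules} (hL : PicF.IsInvertible L) :
    ∃ P : Y.Modules, PicF.IsInvertible P ∧ Nonempty (Frames N L P) := by
  choose W e hyW he using exists_frame_fibre (π := π) hL
  choose a ha using fun i j : Y => exists_coord ((he i).res (π.preimage_mono (inf_le_left : W i ⊓ W j ≤ W i)))
    (rs L (π.preimage_mono (inf_le_right : W i ⊓ W j ≤ W j)) (e j))
  have key : ∀ (i j : Y) (V : Y.Opens) (hi : V ≤ W i) (hj : V ≤ W j),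
      rs L (π.preimage_mono hj) (e j) =
        rf (π.preimage_mono (le_inf hi hj)) (a i j) • rs L (π.preimage_mono hi) (e i) := fun i j V hi hj => by
    have h := congrArg (rs L (π.preimage_mono (le_inf hi hj))) (ha i j)
    rwa [rs_smul, rs_rs, rs_rs] at h
  have uniq : ∀ (i : Y) (V : Y.Opens) (hi : V ≤ W i) (b b' : Γ(X, π ⁻¹ᵁ V)),
      b • rs L (π.preimage_mono hi) (e i) = b' • rs L (π.preimage_mono hi) (e i) → b = b' :=
    fun i V hi b b' h => by
      have hg := ((he i).res (π.preimage_mono hi)) _ le_rfl
      exact hg.1 (by simpa only [rs_self] using h)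
  let c : GlueLine.Cocycle W :=
    { u := fun i j => N.nrm _ (a i j)
      self := fun i V h => by
        rw [N.nat h]
        refine (congrArg (N.nrm V) ?_).trans (map_one _)
        refine uniq i V (h.trans inf_le_left) _ _ ?_
        rw [one_smul]
        exact (key i i V (h.trans inf_le_left) (h.trans inf_le_left)).symm
      trans := fun i j k V hi hj hk => by
        rw [N.nat, N.nat, N.nat, ← map_mul]
        refine congrArg (N.nrm V) (uniq i V hi _ _ ?_)
        rw [← key i k V hi hk, key j k V hj hk, key i j V hi hj, smul_smul, mul_comm] }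
  refine ⟨GlueLine.glue c, GlueLine.isInvertible_glue c
    (top_le_iff.1 fun y _ => Opens.mem_iSup.2 ⟨y, hyW y⟩), ⟨{
      ι := Y
      W := W
      cover := fun y => ⟨y, hyW y⟩
      e := e
      gen := he
      E := GlueLine.gen c
      genE := GlueLine.isGen_gen c
      compat := fun k l V hk hl b hb => by
        rw [GlueLine.rs_gen c k l hk hl]
        refine congrArg (· • rs _ hk (GlueLine.gen c k)) ?_
        change rf (le_inf hk hl) (N.nrm _ (a k l)) = _
        rw [N.nat]
        exact congrArg (N.nrm V) (uniq k V hk _ _ ((key k l V hk hl).symm.trans hb)) }⟩⟩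

theorem exists_isAmple [IsFinite π] (N : PreNorm π) (hsurj : Function.Surjective π.base) {L : X.Modules}
    (hL : CohB1.IsAmple L) : ∃ P : Y.Modules, CohB1.IsAmple P := by
  obtain ⟨P, hP, ⟨D⟩⟩ := exists_frames N hL.1
  exact ⟨P, isAmple_of_frames hsurj D hL hP⟩

end Groth.Agent.Lib.NormAmple.Bundle
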