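import Groth.Agent.Lib.NormAmple.FinFree
import Groth.Agent.Lib.NormAmple.Bundle
import Groth.Agent.Lib.Ample.RelAmple
import Groth.Agent.H81.PushLocFree

/-!
# Norms for finite locally free morphisms, and descent of (relative) ampleness
-/

noncomputable section

universe u

open CategoryTheory CategoryTheory.Limits AlgebraicGeometry Opposite TopologicalSpace

namespace Groth.Agent.Lib.NormAmple.FinFreeMain

open TensorMod TensorMod.Basic TensorMod.Dual TensorMod.Gen TensorMod.Basis TensorMod.Pullback NormAmple.Basic NormAmple.FinFree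

variable {X Y : Scheme.{u}} {π : X ⟶ Y}

theorem finrank_chart [IsFinite π] [Flat π] (c : Chart π) {y : Y} (hy : y ∈ c.W) : π.finrank y = c.r := by
  obtain ⟨i⟩ := exists_iso_of_basis (M := (Coh.push π).obj (Coh.structureModule X)) (e := fun k => c.b k)
    fun V hV => c.bij V hV
  exact Groth.Agent.H81.PushLocFree.finrank_eq hy i

theorem nontrivial_sections {V : Y.Opens} {y : Y} (hy : y ∈ V) : Nontrivial Γ(Y, V) := by
  haveI : Nonempty (V : Scheme.{u}) := ⟨⟨y, hy⟩⟩
  exact (Y.presheaf.germ V y hy).hom.domain_nontrivial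

theorem rank_eq_of_mem (c c' : Chart π) {y : Y} (hy : y ∈ c.W) (hy' : y ∈ c'.W) : c.r = c'.r :=
  rank_unique c c' inf_le_left inf_le_right (nontrivial_sections (V := c.W ⊓ c'.W) ⟨hy, hy'⟩)

theorem rank_pos (c : Chart π) {y : Y} (hy : y ∈ c.W) {x : X} (hx : π x = y) : 0 < c.r := by
  refine Nat.pos_of_ne_zero fun h0 => ?_
  letI := alg π c.W
  haveI : IsEmpty (Fin c.r) := by rw [h0]; exact Fin.isEmpty
  haveI : Subsingleton Γ(X, π ⁻¹ᵁ c.W) := (c.basis le_rfl).repr.toEquiv.subsingleton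
  have hxV : x ∈ π ⁻¹ᵁ c.W := show π x ∈ c.W from hx ▸ hy
  have h1 := (Scheme.mem_basicOpen X (1 : Γ(X, π ⁻¹ᵁ c.W)) x hxV).2 (by simp)
  rw [Subsingleton.elim (1 : Γ(X, π ⁻¹ᵁ c.W)) 0] at h1
  exact ((Scheme.mem_basicOpen X _ x hxV).1 h1).ne_zero (map_zero _)

/-- The determinant atlas with exponents one. -/
def unitAtlas (h : FlatMod.IsFinLocFree ((Coh.push π).obj (Coh.structureModule X))) : Atlas π where
  ex _ := 1
  pos _ _ _ _ := one_pos
  chart y := (exists_chart h y).choose
  mem y := (exists_chart h y).choose_spec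

/-- The pre-norm of an atlas. -/
def toPreNorm (A : Atlas π) (hsurj : Function.Surjective π.base) : PreNorm π where
  nrm := nrmHom A
  nat h s := nrmHom_nat A h s
  mem _ s y _ h hy' := by
    obtain ⟨x, rfl⟩ := hsurj y
    exact h x rfl (mem_of_mem_basicOpen_nrm A s hy')

/-- The norm of an atlas whose exponents balance the ranks. -/
def toNorm (A : Atlas π) {d : ℕ} (hd1 : 1 ≤ d) (hd : ∀ c : Chart π, ∀ y ∈ c.W, c.r * A.ex c.r = d) :
    Nrm.NormOfDegree π d where
  one_le := hd1
  norm := nrmHom A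
  norm_res i s := nrmHom_nat A i.le s
  norm_app := nrm_app A hd
  norm_mem U s x hx hs := (IsLocalRing.mem_maximalIdeal _).2 fun hu =>
    (IsLocalRing.mem_maximalIdeal _).1 hs ((Scheme.mem_basicOpen X s x hx).1
      (mem_of_mem_basicOpen_nrm A s ((Scheme.mem_basicOpen Y _ _ hx).2 hu)))

theorem exists_norm [CompactSpace Y] (h : FlatMod.IsFinLocFree ((Coh.push π).obj (Coh.structureModule X)))
    (hsurj : Function.Surjective π.base) : ∃ d, Nonempty (Nrm.NormOfDegree π d) := by
  choose c hc using exists_chart h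
  obtain ⟨t, ht⟩ := isCompact_univ.elim_finite_subcover (fun y => ((c y).W : Set Y)) (fun y => (c y).W.isOpen)
    (fun y _ => Set.mem_iUnion.2 ⟨y, hc y⟩)
  have hr : ∀ y, 0 < (c y).r := fun y => by
    obtain ⟨x, hx⟩ := hsurj y
    exact rank_pos (c y) (hc y) hx
  let d := ∏ y ∈ t, (c y).r
  have hd : 0 < d := Finset.prod_pos fun y _ => hr y
  have key : ∀ c' : Chart π, ∀ y ∈ c'.W, c'.r ∣ d := fun c' y hy => by
    obtain ⟨z, hz, hyz⟩ := Set.mem_iUnion₂.1 (ht (Set.mem_univ y))
    exact (rank_eq_of_mem c' (c z) hy hyz) ▸ Finset.dvd_prod_of_mem _ hz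
  let A : Atlas π :=
    { ex := fun r => d / r
      pos := fun c' y hy h0 => Nat.div_pos (Nat.le_of_dvd hd (key c' y hy)) h0
      chart := c
      mem := hc }
  exact ⟨d, ⟨toNorm A hd fun c' y hy => Nat.mul_div_cancel' (key c' y hy)⟩⟩

/-- Restriction of the freeness hypothesis to an open of the base. -/
theorem isFinLocFree_restrict [IsAffineHom π] (h : FlatMod.IsFinLocFree ((Coh.push π).obj (Coh.structureModule X)))
    (U : Y.Opens) :
    FlatMod.IsFinLocFree ((Coh.push (π ∣_ U)).obj (Coh.structureModule (π ⁻¹ᵁ U : Scheme.{u}))) := by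
  obtain ⟨h1, h2, h3⟩ := Groth.Agent.H81.PushLocFree.isFinLocFree_of_push π h
  haveI := h1; haveI := h2; haveI := h3
  exact Groth.Agent.H81.PushLocFree.isFinLocFree_push (π ∣_ U)

/-- Relative ampleness descends along a finite surjection with locally free direct image. -/
theorem isRelAmple_of_pullback {S : Scheme.{u}} (f : Y ⟶ S) [QuasiCompact f] [IsFinite π] [Surjective π]
    (h : FlatMod.IsFinLocFree ((Coh.push π).obj (Coh.structureModule X))) {L : Y.Modules}
    (hL : PicF.IsInvertible L) (hA : _root_.RelAmple.IsRelAmple (π ≫ f) ((pb π).obj L)) :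
    _root_.RelAmple.IsRelAmple f L := by
  rw [Ample.RelAmple.isRelAmple_iff] at hA ⊢
  refine ⟨inferInstance, fun V hV => ?_⟩
  let U := f ⁻¹ᵁ V
  haveI : CompactSpace (U : Scheme.{u}) :=
    isCompact_iff_compactSpace.1 (f.isCompact_preimage hV.isCompact)
  haveI : IsFinite (π ∣_ U) := IsZariskiLocalAtTarget.restrict ‹_› U
  have hsurj : Function.Surjective (π ∣_ U).base := by
    haveI : Surjective (π ∣_ U) := IsZariskiLocalAtTarget.restrict ‹_› U
    exact (π ∣_ U).surjective
  obtain ⟨d, ⟨N⟩⟩ := exists_norm (isFinLocFree_restrict h U) hsurj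
  refine Bundle.isAmple_of_pullback N (PicLoc.isInvertible_pullback U.ι hL) ?_
  refine Ample.Pow.isAmple_of_iso ?_ (hA.2 V hV)
  exact (Scheme.Modules.pullbackComp (π ⁻¹ᵁ U).ι π).app L ≪≫
    (Scheme.Modules.pullbackCongr (morphismRestrict_ι π U).symm).app L ≪≫
    ((Scheme.Modules.pullbackComp (π ∣_ U) U.ι).app L).symm

end Groth.Agent.Lib.NormAmple.FinFreeMain
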