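import Groth.Agent.Lib.NormAmple.Generic
import Groth.Agent.Lib.AlgGlue.Basic
import Mathlib.RingTheory.Ideal.GoingUp

/-!
# The finite birational model carrying the norm of a finite surjection over a reduced Noetherian base
-/

noncomputable section

set_option linter.style.haveILetI false

universe u

open CategoryTheory CategoryTheory.Limits AlgebraicGeometry Opposite TopologicalSpace

namespace Groth.Agent.Lib.NormAmple.Model

open TensorMod.Dual NormAmple.GenStalk NormAmple.FinFree NormAmple.Generic Polynomial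

/-! ### Algebra -/

/-- A determinant of a matrix killed by a monic polynomial with lower coefficients in a prime lies in it. -/
theorem det_mem_prime {A R K : Type u} [CommRing A] [CommRing R] [Field K] {n : Type*} [Fintype n] [DecidableEq n]
    [Nonempty n] (φ : A →+* R) (ψ : R →+* K) (q : Ideal R) [q.IsPrime] (hker : RingHom.ker ψ ≤ q)
    (M : Matrix n n K) {p : A[X]} (hp : p.Monic) (hlow : ∀ k < p.natDegree, φ (p.coeff k) ∈ q)
    (h : aeval M (p.map (ψ.comp φ)) = 0) {e : R} (he : ψ e = M.det) : e ∈ q := by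
  classical
  let L := AlgebraicClosure K
  let ι := algebraMap K L
  letI algL : Algebra R L := (ι.comp ψ).toAlgebra
  let C := integralClosure R L
  obtain ⟨Q, -, hQ, hQc⟩ := Ideal.exists_ideal_over_prime_of_isIntegral q (⊥ : Ideal C) (fun x hx => by
    refine hker (show ψ x = 0 from ι.injective ?_)
    rw [map_zero]
    exact congrArg Subtype.val (show algebraMap R C x = 0 from hx))
  let N : Matrix n n L := M.map ι
  have hN : aeval N ((p.map φ).map (algebraMap R L)) = 0 := by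
    have h1 := congrArg (Algebra.ofId K L).mapMatrix h
    rw [map_zero, ← aeval_algHom_apply] at h1
    rw [Polynomial.map_map, show (algebraMap R L).comp φ = ι.comp (ψ.comp φ) from rfl, ← Polynomial.map_map,
      aeval_map_algebraMap]
    exact h1
  have hev : ∀ μ ∈ N.charpoly.roots, ((p.map φ).map (algebraMap R L)).eval μ = 0 := fun μ hμ => by
    have hs : μ ∈ spectrum L N := Matrix.mem_spectrum_iff_isRoot_charpoly.2 (isRoot_of_mem_roots hμ)
    have h2 := spectrum.subset_polynomial_aeval N ((p.map φ).map (algebraMap R L)) ⟨μ, hs, rfl⟩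
    rwa [hN, spectrum.zero_eq, Set.mem_singleton_iff] at h2
  have hroots : ∀ μ ∈ N.charpoly.roots, ∃ c : C, (c : L) = μ ∧ c ∈ Q := fun μ hμ => by
    have h0 := hev μ hμ
    rw [eval_map] at h0
    let c : C := ⟨μ, ⟨p.map φ, hp.map φ, h0⟩⟩
    refine ⟨c, rfl, ?_⟩
    have hc : (p.map φ).eval₂ (algebraMap R C) c = 0 := by
      refine Subtype.ext ?_
      change C.val.toRingHom _ = _
      rw [hom_eval₂]
      exact h0
    have hmap : p.map ((Ideal.Quotient.mk Q).comp ((algebraMap R C).comp φ)) = X ^ p.natDegree := by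
      ext k
      rw [coeff_map, coeff_X_pow]
      split_ifs with hk
      · rw [hk, hp.coeff_natDegree, map_one]
      · rcases lt_or_gt_of_ne hk with hlt | hgt
        · refine Ideal.Quotient.eq_zero_iff_mem.2 ?_
          have := hlow k hlt
          rw [← hQc] at this
          exact this
        · rw [coeff_eq_zero_of_natDegree_lt hgt, map_zero]
    have h1 := congrArg (Ideal.Quotient.mk Q) hc
    rw [map_zero, hom_eval₂, eval₂_map, eval₂_eq_eval_map, RingHom.comp_assoc, hmap, eval_pow, eval_X] at h1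
    exact Ideal.Quotient.eq_zero_iff_mem.1 (eq_zero_of_pow_eq_zero h1)
  have hne : N.charpoly.roots ≠ 0 := by
    intro hz
    have hd := Matrix.charpoly_natDegree_eq_dim N
    rw [(IsAlgClosed.splits N.charpoly).natDegree_eq_card_roots, hz] at hd
    exact Fintype.card_ne_zero hd.symm
  choose c hc hcQ using hroots
  let m : Multiset C := N.charpoly.roots.attach.map fun μ => c μ.1 μ.2
  have hm : (m.prod : L) = N.det := by
    rw [Matrix.det_eq_prod_roots_charpoly, ← Subalgebra.coe_val C, map_multiset_prod, Multiset.map_map]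
    congr 1
    conv_rhs => rw [← Multiset.attach_map_val N.charpoly.roots]
    exact Multiset.map_congr rfl fun μ _ => hc μ.1 μ.2
  have hmQ : m.prod ∈ Q := by
    obtain ⟨μ, hμ⟩ := Multiset.exists_mem_of_ne_zero hne
    have : c μ hμ ∈ m := Multiset.mem_map.2 ⟨⟨μ, hμ⟩, Multiset.mem_attach _ _, rfl⟩
    exact Q.mem_of_dvd (Multiset.dvd_prod this) (hcQ μ hμ)
  rw [← hQc, Ideal.mem_comap]
  have hee : algebraMap R C e = m.prod := Subtype.ext <| by
    rw [hm]
    change ι (ψ e) = _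
    rw [he, RingHom.map_det]
    rfl
  rw [hee]
  exact hmQ

/-! ### Set-up -/

variable {X Y : Scheme.{u}} (π : X ⟶ Y) (d : ℕ)

/-- The maximal points in an open. -/
abbrev MaxIn (U : Y.Opens) : Type u := {η : Y // IsMaxPt η ∧ η ∈ U}

/-- The product of the generic stalks in an open. -/
abbrev Kp (U : Y.Opens) : Type u := ∀ η : MaxIn U, Y.presheaf.stalk η.1

/-- Restriction. -/
def resK {U V : Y.Opens} (h : V ≤ U) : Kp U →+* Kp V :=
  RingHom.pi fun η => Pi.evalRingHom (fun η : MaxIn U => (Y.presheaf.stalk η.1 : Type u)) ⟨η.1, η.2.1, h η.2.2⟩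

/-- Generic germs. -/
def toK (U : Y.Opens) : Γ(Y, U) →+* Kp U := RingHom.pi fun η => (Y.presheaf.germ U η.1 η.2.2).hom

theorem toK_apply (U : Y.Opens) (a : Γ(Y, U)) (η : MaxIn U) : toK U a η = Y.presheaf.germ U η.1 η.2.2 a := rfl

/-- The generic norm. -/
def nK (U : Y.Opens) : Γ(X, π ⁻¹ᵁ U) →* Kp U where
  toFun s η := nr π η.1 (pg π η.2.2 s) ^ (d / rk π η.1)
  map_one' := by funext η; simp
  map_mul' s t := by funext η; simp [mul_pow]

theorem nK_apply (U : Y.Opens) (s : Γ(X, π ⁻¹ᵁ U)) (η : MaxIn U) :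
    nK π d U s η = nr π η.1 (pg π η.2.2 s) ^ (d / rk π η.1) := rfl

theorem resK_toK {U V : Y.Opens} (h : V ≤ U) (a : Γ(Y, U)) :
    resK h (toK U a) = toK V (Y.presheaf.map (homOfLE h).op a) := by
  funext η
  exact (TopCat.Presheaf.germ_res_apply Y.presheaf (homOfLE h) η.1 η.2.2 a).symm

theorem resK_nK {U V : Y.Opens} (h : V ≤ U) (s : Γ(X, π ⁻¹ᵁ U)) :
    resK h (nK π d U s) = nK π d V (X.presheaf.map (homOfLE (π.preimage_mono h)).op s) := by
  funext η
  exact congrArg (fun v => nr π η.1 v ^ (d / rk π η.1)) (pg_res π h η.2.2 s).symm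

theorem toK_injective [IsReduced Y] (U : Y.Opens) : Function.Injective (toK U) := by
  rw [injective_iff_map_eq_zero]
  exact fun a ha => eq_zero_of_germ a fun η hη hηU => congrFun ha ⟨η, hη, hηU⟩

theorem finite_maxIn (hfin : Set.Finite {η : Y | IsMaxPt η}) (U : Y.Opens) : Finite (MaxIn U) :=
  (hfin.subset fun _ h => h.1).to_subtype

/-- The model algebra. -/
def Bsub (U : Y.Opens) : Subring (Kp U) := Subring.closure (Set.range (toK U) ∪ Set.range (nK π d U))

theorem toK_mem (U : Y.Opens) (a : Γ(Y, U)) : toK U a ∈ Bsub π d U := Subring.subset_closure (.inl ⟨a, rfl⟩)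

theorem nK_mem (U : Y.Opens) (s : Γ(X, π ⁻¹ᵁ U)) : nK π d U s ∈ Bsub π d U := Subring.subset_closure (.inr ⟨s, rfl⟩)

theorem resK_mem {U V : Y.Opens} (h : V ≤ U) {x : Kp U} (hx : x ∈ Bsub π d U) : resK h x ∈ Bsub π d V := by
  refine (Subring.closure_le (t := (Bsub π d V).comap (resK h))).2 ?_ hx
  rintro _ (⟨a, rfl⟩ | ⟨s, rfl⟩)
  · exact (congrArg (· ∈ Bsub π d V) (resK_toK h a)).mpr (toK_mem π d V _)
  · exact (congrArg (· ∈ Bsub π d V) (resK_nK π d h s)).mpr (nK_mem π d V _)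

/-- The presheaf. -/
def F : Y.Opensᵒᵖ ⥤ CommRingCat.{u} where
  obj U := CommRingCat.of (Bsub π d U.unop)
  map {U V} i := CommRingCat.ofHom ((resK i.unop.le).restrict (Bsub π d U.unop) (Bsub π d V.unop)
    fun _ hx => resK_mem π d i.unop.le hx)
  map_id U := by ext x; rfl
  map_comp i j := by ext x; rfl

/-- The structure map. -/
def α : Y.presheaf ⟶ F π d where
  app U := CommRingCat.ofHom ((toK U.unop).codRestrict (Bsub π d U.unop) (toK_mem π d U.unop))
  naturality U V i := by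
    ext a
    exact Subtype.ext (resK_toK i.unop.le a).symm

/-- The norm with values in the algebra. -/
def nF (U : Y.Opens) : Γ(X, π ⁻¹ᵁ U) →* ((F π d).obj (op U)) where
  toFun s := ⟨nK π d U s, nK_mem π d U s⟩
  map_one' := Subtype.ext (map_one (nK π d U))
  map_mul' s t := Subtype.ext (map_mul (nK π d U) s t)

theorem α_injective [IsReduced Y] (U : Y.Opens) : Function.Injective ((α π d).app (op U)) :=
  fun _ _ h => toK_injective U (congrArg Subtype.val h)

variable [IsReduced Y]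

/-! ### The degree -/

/-- The numerical hypotheses. -/
structure Deg : Prop where
  pos : 0 < d
  dvd : ∀ η : Y, IsMaxPt η → rk π η ∣ d
  fin : Set.Finite {η : Y | IsMaxPt η}
  surj : Function.Surjective π.base

theorem exists_deg [IsFinite π] (hfin : Set.Finite {η : Y | IsMaxPt η}) (hsurj : Function.Surjective π.base) :
    ∃ d, Deg π d :=
  ⟨∏ η ∈ hfin.toFinset, rk π η,
    ⟨Finset.prod_pos fun η hη => rk_pos π (hfin.mem_toFinset.1 hη) (hsurj η),
      fun _ hη => Finset.dvd_prod_of_mem _ (hfin.mem_toFinset.2 hη), hfin, hsurj⟩⟩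

variable {π d} (D : Deg π d)

include D in
theorem nK_app (U : Y.Opens) (g : Γ(Y, U)) : nK π d U (π.app U g) = toK U g ^ d := by
  funext η
  letI := (isField_stalk η.2.1).toField
  rw [nK_apply, pg_app, nr, Algebra.norm_algebraMap, ← pow_mul]
  exact congrArg (_ ^ ·) (Nat.mul_div_cancel' (D.dvd η.1 η.2.1))

include D in
theorem exponent_pos [IsFinite π] {η : Y} (hη : IsMaxPt η) : 0 < d / rk π η :=
  Nat.div_pos (Nat.le_of_dvd D.pos (D.dvd η hη)) (rk_pos π hη (D.surj η))

/-! ### Localisation -/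

theorem germ_eq_zero_of_notMem {U : Y.Opens} (f : Γ(Y, U)) {η : MaxIn U} (h : η.1 ∉ Y.basicOpen f) :
    toK U f η = 0 := by
  letI := (isField_stalk η.2.1).toField
  by_contra hne
  exact h ((Scheme.mem_basicOpen Y f η.1 η.2.2).2 (isUnit_iff_ne_zero.2 hne))

include D in
theorem isQC [IsFinite π] : AlgGlue.Basic.IsQC (α π d) := fun U hU f => by
  letI alg := ((F π d).map (homOfLE (Y.basicOpen_le f)).op).hom.toAlgebra
  haveI := hU.isLocalization_basicOpen f
  have hloc : ∀ a : Γ(Y, Y.basicOpen f), ∃ (b : Γ(Y, U)) (n : ℕ),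
      a * Y.presheaf.map (homOfLE (Y.basicOpen_le f)).op f ^ n = Y.presheaf.map (homOfLE (Y.basicOpen_le f)).op b := by
    intro a
    obtain ⟨⟨b, _, n, rfl⟩, hb⟩ := IsLocalization.surj (Submonoid.powers f) a
    exact ⟨b, n, by rw [← map_pow]; exact hb⟩
  let fK : Kp (Y.basicOpen f) := toK (Y.basicOpen f) (Y.presheaf.map (homOfLE (Y.basicOpen_le f)).op f)
  have hsurj : ∀ z ∈ Bsub π d (Y.basicOpen f), ∃ (n : ℕ) (b : Kp U), b ∈ Bsub π d U ∧
      z * fK ^ n = resK (Y.basicOpen_le f) b := by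
    intro z hz
    have hfU : resK (Y.basicOpen_le f) (toK U f) = fK := resK_toK _ f
    induction hz using Subring.closure_induction with
    | mem z hz =>
      rcases hz with ⟨a, rfl⟩ | ⟨s, rfl⟩
      · obtain ⟨b, n, hb⟩ := hloc a
        refine ⟨n, toK U b, toK_mem π d U b, ?_⟩
        rw [resK_toK, ← hb, map_mul, map_pow]
      · have hU' : IsAffineOpen (π ⁻¹ᵁ U) := hU.preimage π
        have he : π ⁻¹ᵁ Y.basicOpen f = X.basicOpen (π.app U f) := Scheme.preimage_basicOpen π f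
        haveI := hU'.isLocalization_basicOpen (π.app U f)
        obtain ⟨⟨t, _, n, rfl⟩, hb⟩ := IsLocalization.surj (Submonoid.powers (π.app U f))
          (X.presheaf.map (homOfLE he.ge).op s)
        refine ⟨d * n, nK π d U t, nK_mem π d U t, ?_⟩
        have hb' := congrArg (X.presheaf.map (homOfLE he.le).op) hb
        rw [RingHom.algebraMap_toAlgebra, map_mul] at hb'
        erw [← ConcreteCategory.comp_apply, ← Functor.map_comp, ← ConcreteCategory.comp_apply, ← Functor.map_comp,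
          ← ConcreteCategory.comp_apply, ← Functor.map_comp] at hb'
        rw [Subsingleton.elim ((homOfLE he.ge).op ≫ (homOfLE he.le).op) (𝟙 _), X.presheaf.map_id] at hb'
        have h1 : s * π.app (Y.basicOpen f) (Y.presheaf.map (homOfLE (Y.basicOpen_le f)).op f) ^ n =
            X.presheaf.map (homOfLE (π.preimage_mono (Y.basicOpen_le f))).op t := by
          refine Eq.trans ?_ hb'
          refine congrArg₂ (· * ·) rfl ?_
          rw [map_pow]
          exact congrArg (· ^ n) (ConcreteCategory.congr_hom (π.naturality (homOfLE (Y.basicOpen_le f)).op) f)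
        rw [resK_nK, ← h1, map_mul, map_pow, nK_app D, ← pow_mul]
    | zero => exact ⟨0, 0, zero_mem _, by simp⟩
    | one => exact ⟨0, 1, one_mem _, by simp⟩
    | add x y _ _ hx hy =>
      obtain ⟨n, b, hb, hb'⟩ := hx
      obtain ⟨m, c, hc, hc'⟩ := hy
      refine ⟨n + m, b * toK U f ^ m + c * toK U f ^ n,
        add_mem (mul_mem hb (pow_mem (toK_mem π d U f) _)) (mul_mem hc (pow_mem (toK_mem π d U f) _)), ?_⟩
      rw [map_add, map_mul, map_mul, map_pow, map_pow, hfU, ← hb', ← hc']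
      ring
    | neg x _ hx =>
      obtain ⟨n, b, hb, hb'⟩ := hx
      exact ⟨n, -b, neg_mem hb, by rw [map_neg, neg_mul, hb']⟩
    | mul x y _ _ hx hy =>
      obtain ⟨n, b, hb, hb'⟩ := hx
      obtain ⟨m, c, hc, hc'⟩ := hy
      exact ⟨n + m, b * c, mul_mem hb hc, by rw [map_mul, ← hb', ← hc']; ring⟩
  refine (isLocalization_iff _ _).2 ⟨?_, fun z => ?_, fun {x y} hxy => ?_⟩
  · rintro ⟨_, n, rfl⟩
    rw [map_pow]
    refine IsUnit.pow n ?_
    have hu : IsUnit (Y.presheaf.map (homOfLE (Y.basicOpen_le f)).op f) :=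
      Y.toRingedSpace.isUnit_res_basicOpen f
    have h := hu.map ((α π d).app (op (Y.basicOpen f))).hom
    rw [← ConcreteCategory.comp_apply, (α π d).naturality, ConcreteCategory.comp_apply] at h
    exact h
  · obtain ⟨n, b, hb, hb'⟩ := hsurj z.1 z.2
    refine ⟨⟨⟨b, hb⟩, ⟨_, n, rfl⟩⟩, Subtype.ext ?_⟩
    refine Eq.trans ?_ hb'
    change z.1 * (resK (Y.basicOpen_le f) (((α π d).app (op U) f ^ n : (F π d).obj (op U)).1)) = _
    congr 1
    change resK (Y.basicOpen_le f) (toK U f ^ n) = _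
    rw [map_pow, resK_toK]
  · refine ⟨⟨_, 1, rfl⟩, Subtype.ext (funext fun η => ?_)⟩
    change ((toK U f) ^ 1) η * x.1 η = ((toK U f) ^ 1) η * y.1 η
    rw [pow_one]
    by_cases hη : η.1 ∈ Y.basicOpen f
    · have := congrFun (congrArg Subtype.val hxy) ⟨η.1, η.2.1, hη⟩
      exact congrArg _ this
    · rw [germ_eq_zero_of_notMem f hη, zero_mul, zero_mul]

/-! ### Finiteness -/

theorem isIntegral_nr [IsFinite π] {U : Y.Opens} (hU : IsAffineOpen U) (s : Γ(X, π ⁻¹ᵁ U)) (η : MaxIn U) :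
    (Y.presheaf.germ U η.1 η.2.2).hom.IsIntegralElem (nr π η.1 (pg π η.2.2 s)) := by
  classical
  obtain ⟨p, hp, hp0⟩ := (IsFinite.finite_app π U hU).to_isIntegral s
  letI := (isField_stalk η.2.1).toField
  haveI := finite_B π η.1
  letI algA : Algebra Γ(Y, U) (Y.presheaf.stalk η.1) := (Y.presheaf.germ U η.1 η.2.2).hom.toAlgebra
  let b := Module.Free.chooseBasis (Y.presheaf.stalk η.1) (B π η.1)
  have hv0 : aeval (pg π η.2.2 s) (p.map (algebraMap Γ(Y, U) (Y.presheaf.stalk η.1))) = 0 := by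
    have h1 := congrArg (pg π η.2.2) hp0
    rw [map_zero, hom_eval₂] at h1
    rw [aeval_def, eval₂_map, ← h1]
    refine congrArg (fun g => eval₂ g _ p) (RingHom.ext fun z => ?_)
    exact (pg_app π η.2.2 z).symm
  have hM : aeval (Algebra.leftMulMatrix b (pg π η.2.2 s)) (p.map (algebraMap Γ(Y, U) (Y.presheaf.stalk η.1))) = 0 := by
    rw [aeval_algHom_apply, hv0, map_zero]
  have h2 := IntCharpoly.isIntegral_charpoly_coeff (Algebra.leftMulMatrix b (pg π η.2.2 s)) hp hM 0
  have h3 : nr π η.1 (pg π η.2.2 s) = (-1) ^ Fintype.card (Module.Free.ChooseBasisIndex (Y.presheaf.stalk η.1) (B π η.1)) *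
      (Algebra.leftMulMatrix b (pg π η.2.2 s)).charpoly.coeff 0 := by
    rw [nr, Algebra.norm_eq_matrix_det b, Matrix.det_eq_sign_charpoly_coeff]
  rw [h3]
  exact IsIntegral.mul (((isIntegral_one).neg).pow _) h2

theorem isIntegral_nK [IsFinite π] (hfin : Set.Finite {η : Y | IsMaxPt η}) {U : Y.Opens} (hU : IsAffineOpen U)
    (s : Γ(X, π ⁻¹ᵁ U)) : (toK U).IsIntegralElem (nK π d U s) := by
  classical
  haveI := finite_maxIn hfin U
  letI := Fintype.ofFinite (MaxIn U)
  have h : ∀ η : MaxIn U, ∃ p : Γ(Y, U)[X], p.Monic ∧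
      eval₂ (Y.presheaf.germ U η.1 η.2.2).hom (nK π d U s η) p = 0 := fun η => by
    letI algA : Algebra Γ(Y, U) (Y.presheaf.stalk η.1) := (Y.presheaf.germ U η.1 η.2.2).hom.toAlgebra
    exact IsIntegral.pow (isIntegral_nr hU s η) _
  choose p hp hp0 using h
  refine ⟨∏ η, p η, monic_prod_of_monic _ _ fun η _ => hp η, funext fun η => ?_⟩
  have h1 := hom_eval₂ (∏ η, p η) (toK U)
    (Pi.evalRingHom (fun η : MaxIn U => (Y.presheaf.stalk η.1 : Type u)) η) (nK π d U s)
  refine h1.trans ?_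
  rw [eval₂_finsetProd]
  exact Finset.prod_eq_zero (Finset.mem_univ η) (hp0 η)

theorem exists_span_nK [IsFinite π] (hfin : Set.Finite {η : Y | IsMaxPt η}) {U : Y.Opens} (hU : IsAffineOpen U) :
    ∃ T : Set (Kp U), T.Finite ∧ ∀ s, letI := (toK U).toAlgebra
      nK π d U s ∈ Submodule.span Γ(Y, U) T := by
  classical
  letI : Algebra Γ(Y, U) Γ(X, π ⁻¹ᵁ U) := (π.app U).hom.toAlgebra
  haveI : Module.Finite Γ(Y, U) Γ(X, π ⁻¹ᵁ U) := IsFinite.finite_app π U hU
  obtain ⟨m, g, hg⟩ := Module.Finite.exists_fin (R := Γ(Y, U)) (M := Γ(X, π ⁻¹ᵁ U))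
  haveI := finite_maxIn hfin U
  letI := Fintype.ofFinite (MaxIn U)
  have key : ∀ η : MaxIn U, ∃ Φ : MvPolynomial (Fin m) (Y.presheaf.stalk η.1), ∀ a : Fin m → Γ(Y, U),
      nK π d U (∑ k, a k • g k) η = MvPolynomial.eval (fun k => toK U (a k) η) Φ := fun η => by
    letI := (isField_stalk η.2.1).toField
    haveI := finite_B π η.1
    let b := Module.Free.chooseBasis (Y.presheaf.stalk η.1) (B π η.1)
    refine ⟨(∑ k, (MvPolynomial.X k : MvPolynomial (Fin m) (Y.presheaf.stalk η.1)) •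
      (Algebra.leftMulMatrix b (pg π η.2.2 (g k))).map MvPolynomial.C).det ^ (d / rk π η.1), fun a => ?_⟩
    rw [map_pow, nK_apply, nr, Algebra.norm_eq_matrix_det b, RingHom.map_det]
    congr 2
    rw [map_sum, map_sum, map_sum]
    refine Finset.sum_congr rfl fun k _ => ?_
    rw [Algebra.smul_def, RingHom.algebraMap_toAlgebra, map_mul, map_mul]
    erw [pg_app]
    rw [AlgHom.commutes]
    ext i j
    simp [toK_apply, Matrix.algebraMap_eq_diagonal]
  choose Φ hΦ using key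
  refine ⟨⋃ η : MaxIn U, (fun c : Y.presheaf.stalk η.1 => (Pi.single η c : Kp U)) '' ((Φ η).support.image fun e => (Φ η).coeff e : Finset _),
    Set.finite_iUnion fun η => (Finset.finite_toSet _).image _, fun s => ?_⟩
  letI := (toK U).toAlgebra
  have hs : s ∈ Submodule.span Γ(Y, U) (Set.range g) := hg ▸ trivial
  obtain ⟨a, rfl⟩ := (Submodule.mem_span_range_iff_exists_fun _).1 hs
  have he : nK π d U (∑ k, a k • g k) = ∑ η : MaxIn U, ∑ e ∈ (Φ η).support,
      (∏ k, a k ^ e k) • (Pi.single η ((Φ η).coeff e) : Kp U) := by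
    funext η
    rw [hΦ η a, Finset.sum_apply, Finset.sum_eq_single η]
    · rw [Finset.sum_apply, MvPolynomial.eval_eq']
      refine Finset.sum_congr rfl fun e _ => ?_
      rw [Algebra.smul_def, Pi.mul_apply, Pi.single_eq_same, RingHom.algebraMap_toAlgebra, mul_comm]
      refine congrArg (· * _) ?_
      simp only [map_prod, map_pow, Finset.prod_apply, Pi.pow_apply]
    · intro η' _ hne
      rw [Finset.sum_apply]
      refine Finset.sum_eq_zero fun e _ => ?_
      rw [Algebra.smul_def, Pi.mul_apply, Pi.single_eq_of_ne (Ne.symm hne), mul_zero]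
    · exact fun h => (h (Finset.mem_univ η)).elim
  rw [he]
  exact Submodule.sum_mem _ fun η _ => Submodule.sum_mem _ fun e he =>
    Submodule.smul_mem _ _ (Submodule.subset_span
      (Set.mem_iUnion.2 ⟨η, _, Finset.mem_coe.2 (Finset.mem_image_of_mem _ he), rfl⟩))

theorem finite_α [IsFinite π] [IsLocallyNoetherian Y] (hfin : Set.Finite {η : Y | IsMaxPt η}) {U : Y.Opens}
    (hU : IsAffineOpen U) : ((α π d).app (op U)).hom.Finite := by
  classical
  obtain ⟨T, hT, hTs⟩ := exists_span_nK (d := d) hfin hU (π := π)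
  letI algK := (toK U).toAlgebra
  haveI : IsNoetherianRing Γ(Y, U) := IsLocallyNoetherian.component_noetherian (⟨U, hU⟩ : Y.affineOpens)
  haveI : IsNoetherian Γ(Y, U) (Submodule.span Γ(Y, U) T) := isNoetherian_of_fg_of_noetherian _ ⟨hT.toFinset, by simp⟩
  have hM : (Submodule.span Γ(Y, U) (Set.range (nK π d U))).FG := by
    have hle : Submodule.span Γ(Y, U) (Set.range (nK π d U)) ≤ Submodule.span Γ(Y, U) T :=
      Submodule.span_le.2 (Set.range_subset_iff.2 hTs)
    haveI : IsNoetherian Γ(Y, U) (Submodule.span Γ(Y, U) (Set.range (nK π d U))) := isNoetherian_of_le hle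
    exact Module.Finite.iff_fg.1 inferInstance
  obtain ⟨t, ht, hspan⟩ := (Submodule.fg_span_iff_fg_span_finset_subset _).1 hM
  have hadj : Algebra.adjoin Γ(Y, U) (t : Set (Kp U)) = Algebra.adjoin Γ(Y, U) (Set.range (nK π d U)) := by
    rw [← Algebra.adjoin_span (R := Γ(Y, U)), ← hspan, Algebra.adjoin_span]
  have hfg : (Subalgebra.toSubmodule (Algebra.adjoin Γ(Y, U) (Set.range (nK π d U)))).FG := by
    rw [← hadj]
    refine fg_adjoin_of_finite t.finite_toSet fun x hx => ?_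
    obtain ⟨s, rfl⟩ := ht hx
    exact isIntegral_nK hfin hU s
  haveI : Module.Finite Γ(Y, U) (Algebra.adjoin Γ(Y, U) (Set.range (nK π d U))) := Module.Finite.iff_fg.2 hfg
  have hmem : ∀ x : Algebra.adjoin Γ(Y, U) (Set.range (nK π d U)), x.1 ∈ Bsub π d U := fun x => by
    have h : x.1 ∈ (Algebra.adjoin Γ(Y, U) (Set.range (nK π d U))).toSubring := x.2
    rwa [Algebra.adjoin_eq_ring_closure] at h
  letI := ((α π d).app (op U)).hom.toAlgebra
  let l : Algebra.adjoin Γ(Y, U) (Set.range (nK π d U)) →ₗ[Γ(Y, U)] (F π d).obj (op U) :=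
    { toFun := fun x => ⟨x.1, hmem x⟩
      map_add' := fun x y => rfl
      map_smul' := fun a x => Subtype.ext (Algebra.smul_def a x.1) }
  refine RingHom.finite_algebraMap.2 (Module.Finite.of_surjective l fun x => ⟨⟨x.1, ?_⟩, rfl⟩)
  have h : x.1 ∈ (Algebra.adjoin Γ(Y, U) (Set.range (nK π d U))).toSubring := by
    rw [Algebra.adjoin_eq_ring_closure]
    exact x.2
  exact h

/-! ### Good points -/

include D in
theorem exists_local [IsFinite π] {y : Y} (hgood : Good π y) {U : Y.Opens} (s : Γ(X, π ⁻¹ᵁ U)) (hy : y ∈ U) :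
    ∃ (V : Y.Opens) (h : V ≤ U), y ∈ V ∧ ∃ n : Γ(Y, V), toK V n = resK h (nK π d U s) := by
  suffices ∃ (V : Y.Opens) (h : V ≤ U), y ∈ V ∧ ∃ n, Spc π d (rf (π.preimage_mono h) s) n by
    obtain ⟨V, h, hyV, n, hn⟩ := this
    exact ⟨V, h, hyV, n, funext fun η => (hn η.1 η.2.1 η.2.2).trans (congrFun (resK_nK π d h s) η).symm⟩
  rcases hgood with ⟨h1, h2⟩ | ⟨c, hc⟩
  · haveI := h1; haveI := h2
    obtain ⟨η, hη, hηy⟩ := exists_isMax_specializes y
    letI := (isField_stalk hη).toField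
    haveI := finite_B π η
    obtain ⟨q, hq⟩ := exists_lift_chi π D.fin hη hηy hy s
    obtain ⟨W, hyW, n, hn⟩ := Y.presheaf.exists_germ_eq (((-1) ^ rk π η * q.coeff 0) ^ (d / rk π η))
    obtain ⟨V₀, hyV₀, hV₀⟩ := exists_isolated D.fin hη hηy
    refine ⟨U ⊓ (W ⊓ V₀), inf_le_left, ⟨hy, hyW, hyV₀⟩, rf (inf_le_right.trans inf_le_left) n, fun a ha haV => ?_⟩
    obtain rfl := hV₀ a ha haV.2.2
    refine Eq.trans ?_ (congrArg (fun v => nr π a v ^ (d / rk π a)) (pg_res π inf_le_left haV s)).symm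
    rw [TopCat.Presheaf.germ_res_apply, ← σ_germ hηy hyW n, hn, map_pow, map_mul, map_pow, map_neg, map_one,
      nr_eq_chi, ← hq, coeff_map]
  · refine ⟨U ⊓ c.W, inf_le_left, ⟨hy, hc⟩,
      det π (U ⊓ c.W) (rf (π.preimage_mono inf_le_left) s) ^ (d / c.r), fun a _ haV => ?_⟩
    rw [map_pow, germ_det c inf_le_right haV, rk_chart c haV.2]

theorem good_of_isMax {η : Y} (hη : IsMaxPt η) : Good π η := by
  letI := (isField_stalk hη).toField
  exact Or.inl ⟨inferInstance, inferInstance⟩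

include D in
theorem exists_trivial_nhd [IsFinite π] [IsLocallyNoetherian Y] {y : Y} (hgood : Good π y) {O : Y.Opens}
    (hyO : y ∈ O) : ∃ U : Y.affineOpens, y ∈ U.1 ∧ U.1 ≤ O ∧ Function.Bijective ((α π d).app (op U.1)) := by
  classical
  obtain ⟨U, hU, hyU, hUO⟩ := exists_isAffineOpen_mem_and_subset (X := Y) (x := y) (U := O) hyO
  -- elements which are locally in the base
  have hloc : ∀ x ∈ Bsub π d U, ∃ (V : Y.Opens) (h : V ≤ U), y ∈ V ∧ resK h x ∈ (toK V).range := by
    intro x hx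
    have hcomb : ∀ {x z : Kp U}, (∃ (V : Y.Opens) (h : V ≤ U), y ∈ V ∧ resK h x ∈ (toK V).range) →
        (∃ (V : Y.Opens) (h : V ≤ U), y ∈ V ∧ resK h z ∈ (toK V).range) →
        ∃ (V : Y.Opens) (h : V ≤ U), y ∈ V ∧ resK h x ∈ (toK V).range ∧ resK h z ∈ (toK V).range := by
      rintro x z ⟨V, h, hyV, a, ha⟩ ⟨V', h', hyV', b, hb⟩
      refine ⟨V ⊓ V', inf_le_left.trans h, ⟨hyV, hyV'⟩, ⟨Y.presheaf.map (homOfLE inf_le_left).op a, ?_⟩,
        ⟨Y.presheaf.map (homOfLE inf_le_right).op b, ?_⟩⟩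
      · rw [← resK_toK, ha]; rfl
      · rw [← resK_toK, hb]; rfl
    induction hx using Subring.closure_induction with
    | mem x hx =>
      rcases hx with ⟨a, rfl⟩ | ⟨s, rfl⟩
      · exact ⟨U, le_rfl, hyU, ⟨a, by rw [resK_toK]; simp⟩⟩
      · obtain ⟨V, h, hyV, n, hn⟩ := exists_local D hgood s hyU
        exact ⟨V, h, hyV, n, hn⟩
    | zero => exact ⟨U, le_rfl, hyU, by rw [map_zero]; exact zero_mem _⟩
    | one => exact ⟨U, le_rfl, hyU, by rw [map_one]; exact one_mem _⟩
    | add x z _ _ hx hz =>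
      obtain ⟨V, h, hyV, h1, h2⟩ := hcomb hx hz
      exact ⟨V, h, hyV, by rw [map_add]; exact add_mem h1 h2⟩
    | neg x _ hx =>
      obtain ⟨V, h, hyV, h1⟩ := hx
      exact ⟨V, h, hyV, by rw [map_neg]; exact neg_mem h1⟩
    | mul x z _ _ hx hz =>
      obtain ⟨V, h, hyV, h1, h2⟩ := hcomb hx hz
      exact ⟨V, h, hyV, by rw [map_mul]; exact mul_mem h1 h2⟩
  -- generators of the algebra as a module
  letI := ((α π d).app (op U)).hom.toAlgebra
  haveI : Module.Finite Γ(Y, U) ((F π d).obj (op U)) := finite_α D.fin hU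
  obtain ⟨S, hS⟩ := Module.finite_def.1 (inferInstance : Module.Finite Γ(Y, U) ((F π d).obj (op U)))
  choose V hVU hyV hV using fun b : S => hloc b.1.1 b.1.2
  let V₀ : Y.Opens := U ⊓ Finset.univ.inf V
  have hyV₀ : y ∈ V₀ := ⟨hyU, by
    rw [SetLike.mem_coe, ← SetLike.mem_coe, Opens.coe_finset_inf]
    simpa using hyV⟩
  obtain ⟨f, hf, hyf⟩ := hU.exists_basicOpen_le (V := V₀) ⟨y, hyV₀⟩ hyU
  have hres : ∀ x : (F π d).obj (op U), resK (Y.basicOpen_le f) x.1 ∈ (toK (Y.basicOpen f)).range := by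
    intro x
    have hx : x ∈ Submodule.span Γ(Y, U) (S : Set ((F π d).obj (op U))) := hS ▸ trivial
    induction hx using Submodule.span_induction with
    | mem x hx =>
      obtain ⟨a, ha⟩ := hV ⟨x, hx⟩
      have hle : Y.basicOpen f ≤ V ⟨x, hx⟩ := hf.trans (inf_le_right.trans (Finset.inf_le (Finset.mem_univ _)))
      exact ⟨Y.presheaf.map (homOfLE hle).op a, by rw [← resK_toK, ha]; rfl⟩
    | zero => exact ⟨0, by rw [map_zero]; exact (map_zero (resK (Y.basicOpen_le f))).symm⟩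
    | add x z _ _ hx hz => exact (map_add (resK (Y.basicOpen_le f)) x.1 z.1).symm ▸ add_mem hx hz
    | smul a x _ hx =>
      change resK (Y.basicOpen_le f) (toK U a * x.1) ∈ _
      rw [map_mul, resK_toK]
      exact mul_mem ⟨_, rfl⟩ hx
  refine ⟨⟨Y.basicOpen f, hU.basicOpen f⟩, hyf, (Y.basicOpen_le f).trans hUO, α_injective π d _, fun z => ?_⟩
  letI alg := ((F π d).map (homOfLE (Y.basicOpen_le f)).op).hom.toAlgebra
  haveI := isQC D U hU f
  obtain ⟨⟨b, _, n, rfl⟩, hb⟩ := IsLocalization.surj (Submonoid.powers ((α π d).app (op U) f)) z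
  obtain ⟨c, hc⟩ := hres b
  have hu : IsUnit (Y.presheaf.map (homOfLE (Y.basicOpen_le f)).op f) := Y.toRingedSpace.isUnit_res_basicOpen f
  obtain ⟨w, hw⟩ := (hu.pow n).exists_right_inv
  refine ⟨c * w, Subtype.ext ?_⟩
  change toK (Y.basicOpen f) (c * w) = z.1
  have hb' : z.1 * resK (Y.basicOpen_le f) (toK U f ^ n) = resK (Y.basicOpen_le f) b.1 := congrArg Subtype.val hb
  rw [map_mul, hc, ← hb', map_pow, resK_toK, mul_assoc, ← map_pow, ← map_mul, hw, map_one, mul_one]

/-! ### Vanishing -/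

theorem eq_of_basicOpen {U : Y.Opens} (hU : IsAffineOpen U) {y y' : Y} (hy : y ∈ U) (hy' : y' ∈ U)
    (h : ∀ a : Γ(Y, U), y ∈ Y.basicOpen a ↔ y' ∈ Y.basicOpen a) : y = y' := by
  have key : ∀ {y y' : Y}, y ∈ U → y' ∈ U → (∀ a : Γ(Y, U), y ∈ Y.basicOpen a → y' ∈ Y.basicOpen a) → y' ⤳ y := by
    intro y y' hy hy' h
    refine specializes_iff_forall_open.2 fun O hO hyO => ?_
    obtain ⟨a, ha, hya⟩ := hU.exists_basicOpen_le (V := ⟨O, hO⟩ ⊓ U) ⟨y, hyO, hy⟩ hy
    exact (ha (h a hya)).1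
  exact Inseparable.eq ((key hy' hy fun a => (h a).2).antisymm (key hy hy' fun a => (h a).1))

include D in
theorem nK_mem_prime [IsFinite π] {U : Y.Opens} (hU : IsAffineOpen U) (q : Ideal (Bsub π d U)) [hq : q.IsPrime]
    {y : Y} (hy : y ∈ U) (hqy : ∀ a : Γ(Y, U), (⟨toK U a, toK_mem π d U a⟩ : Bsub π d U) ∈ q ↔ y ∉ Y.basicOpen a)
    (s : Γ(X, π ⁻¹ᵁ U)) (hs : ∀ x, π x = y → x ∉ X.basicOpen s) :
    (⟨nK π d U s, nK_mem π d U s⟩ : Bsub π d U) ∈ q := by
  classical
  letI algX : Algebra Γ(Y, U) Γ(X, π ⁻¹ᵁ U) := (π.app U).hom.toAlgebra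
  haveI : Module.Finite Γ(Y, U) Γ(X, π ⁻¹ᵁ U) := IsFinite.finite_app π U hU
  let φ : Γ(Y, U) →+* Bsub π d U := (toK U).codRestrict (Bsub π d U) (toK_mem π d U)
  let p : Ideal Γ(Y, U) := q.comap φ
  -- some multiple of a power lies in the extended ideal
  have hex : ∃ (r : Γ(Y, U)) (k : ℕ), r ∉ p ∧ π.app U r * s ^ k ∈ p.map (π.app U).hom := by
    by_contra hno
    push_neg at hno
    let S : Submonoid Γ(X, π ⁻¹ᵁ U) :=
      { carrier := {z | ∃ (r : Γ(Y, U)) (k : ℕ), r ∉ p ∧ z = π.app U r * s ^ k}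
        one_mem' := ⟨1, 0, (Ideal.ne_top_iff_one p).1 (Ideal.IsPrime.ne_top inferInstance), by simp⟩
        mul_mem' := by
          rintro _ _ ⟨r, k, hr, rfl⟩ ⟨r', k', hr', rfl⟩
          exact ⟨r * r', k + k', fun h => (Ideal.IsPrime.mem_or_mem inferInstance h).elim hr hr',
            by rw [map_mul, pow_add]; ring⟩ }
    obtain ⟨P, hP, hpP, hdisj⟩ := Ideal.exists_le_prime_disjoint (p.map (π.app U).hom) S
      (Set.disjoint_left.2 fun z hz ⟨r, k, hr, hzr⟩ => hno r k hr (hzr ▸ hz))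
    have hU' : IsAffineOpen (π ⁻¹ᵁ U) := hU.preimage π
    let x : X := hU'.fromSpec (⟨P, hP⟩ : PrimeSpectrum _)
    have hxU : x ∈ π ⁻¹ᵁ U := by
      have hx : x ∈ Set.range hU'.fromSpec := ⟨_, rfl⟩
      rwa [hU'.range_fromSpec] at hx
    have hmem : ∀ t : Γ(X, π ⁻¹ᵁ U), x ∈ X.basicOpen t ↔ t ∉ P := fun t => by
      change (⟨P, hP⟩ : PrimeSpectrum _) ∈ hU'.fromSpec ⁻¹ᵁ X.basicOpen t ↔ _
      rw [hU'.fromSpec_preimage_basicOpen]
      rfl
    have hxy : π x = y := eq_of_basicOpen hU hxU hy fun a => by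
      have h1 : π x ∈ Y.basicOpen a ↔ π.app U a ∉ P := by
        rw [← hmem, ← Scheme.preimage_basicOpen]; rfl
      rw [h1, ← not_iff_not, not_not, ← hqy a]
      refine ⟨fun h => ?_, fun h => hpP (Ideal.mem_map_of_mem _ h)⟩
      by_contra ha
      exact Set.disjoint_left.1 hdisj h ⟨a, 0, ha, by simp⟩
    have hsP : s ∈ P := by
      by_contra hne
      exact hs x hxy ((hmem s).2 hne)
    exact Set.disjoint_left.1 hdisj hsP ⟨1, 1, (Ideal.ne_top_iff_one p).1 (Ideal.IsPrime.ne_top inferInstance), by simp⟩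
  obtain ⟨r, k, hr, hz⟩ := hex
  let z := π.app U r * s ^ k
  -- a component below the prime
  haveI := finite_maxIn D.fin U
  letI := Fintype.ofFinite (MaxIn U)
  obtain ⟨η, hη⟩ : ∃ η : MaxIn U, RingHom.ker ((Pi.evalRingHom (fun η : MaxIn U => (Y.presheaf.stalk η.1 : Type u)) η).comp
      (Bsub π d U).subtype) ≤ q := by
    have hle : Finset.univ.inf (fun η : MaxIn U => RingHom.ker ((Pi.evalRingHom
        (fun η : MaxIn U => (Y.presheaf.stalk η.1 : Type u)) η).comp (Bsub π d U).subtype)) ≤ q := fun w hw => by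
      have : w = 0 := Subtype.ext (funext fun η => (Submodule.mem_finsetInf.1 hw) η (Finset.mem_univ η))
      rw [this]
      exact q.zero_mem
    obtain ⟨η, -, hη⟩ := (Ideal.IsPrime.inf_le' hq).1 hle
    exact ⟨η, hη⟩
  letI := (isField_stalk η.2.1).toField
  haveI := finite_B π η.1
  haveI := nontrivial_B π (D.surj η.1)
  let b := Module.Free.chooseBasis (Y.presheaf.stalk η.1) (B π η.1)
  haveI : Nonempty (Module.Free.ChooseBasisIndex (Y.presheaf.stalk η.1) (B π η.1)) := b.index_nonempty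
  let ψ := (Pi.evalRingHom (fun η : MaxIn U => (Y.presheaf.stalk η.1 : Type u)) η).comp (Bsub π d U).subtype
  -- the norm in the component
  have hnz : (⟨nK π d U z, nK_mem π d U z⟩ : Bsub π d U) ∈ q := by
    by_contra hne
    have hdet : ψ ⟨nK π d U z, nK_mem π d U z⟩ =
        (Algebra.leftMulMatrix b (pg π η.2.2 z) ^ (d / rk π η.1)).det := by
      rw [Matrix.det_pow, ← Algebra.norm_eq_matrix_det]
      rfl
    -- powers
    obtain ⟨e, he⟩ : ∃ e, d / rk π η.1 = e + 1 := ⟨_, (Nat.succ_pred_eq_of_pos (exponent_pos D η.2.1)).symm⟩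
    have hzpow : ∃ P' : Γ(Y, U)[X], P'.Monic ∧ (∀ j < P'.natDegree, P'.coeff j ∈ p) ∧
        eval₂ (π.app U).hom (z ^ (e + 1)) P' = 0 := by
      obtain ⟨P', h1, -, h3, h4⟩ :=
        LinearMap.exists_monic_and_natDegree_eq_and_coeff_mem_pow_and_aeval_eq_zero Γ(Y, U)
          (Algebra.lmul Γ(Y, U) Γ(X, π ⁻¹ᵁ U) (z ^ (e + 1))) p (by
            rintro _ ⟨w, rfl⟩
            change z ^ (e + 1) * w ∈ p • (⊤ : Submodule Γ(Y, U) Γ(X, π ⁻¹ᵁ U))
            rw [Ideal.smul_top_eq_map]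
            exact Ideal.mul_mem_right _ _ (Ideal.pow_mem_of_mem _ hz _ e.succ_pos))
      rw [aeval_algHom_apply, ← map_zero (Algebra.lmul Γ(Y, U) Γ(X, π ⁻¹ᵁ U))] at h4
      exact ⟨P', h1, fun j hj => Ideal.pow_le_self (Nat.sub_ne_zero_of_lt hj) (h3 j), Algebra.lmul_injective h4⟩
    obtain ⟨P', h1, h2, h3⟩ := hzpow
    refine hne (det_mem_prime φ ψ q hη (Algebra.leftMulMatrix b (pg π η.2.2 z) ^ (d / rk π η.1)) h1 h2 ?_ hdet)
    rw [← map_pow, aeval_algHom_apply, he, ← map_pow]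
    have h1' := congrArg (pg π η.2.2) h3
    rw [map_zero, hom_eval₂] at h1'
    rw [aeval_def, eval₂_map, ← map_zero (Algebra.leftMulMatrix b), ← h1']
    refine congrArg _ (congrArg (fun g => eval₂ g _ P') (RingHom.ext fun a => ?_))
    exact (pg_app π η.2.2 a).symm
  have hsplit : (⟨nK π d U z, nK_mem π d U z⟩ : Bsub π d U) =
      (φ r) ^ d * (⟨nK π d U s, nK_mem π d U s⟩ : Bsub π d U) ^ k := by
    refine Subtype.ext ?_
    change nK π d U (π.app U r * s ^ k) = toK U r ^ d * nK π d U s ^ k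
    rw [map_mul, nK_app D, map_pow]
  rw [hsplit] at hnz
  rcases hq.mem_or_mem hnz with h | h
  · exact (hr (hq.mem_of_pow_mem _ h)).elim
  · exact hq.mem_of_pow_mem _ h

end Groth.Agent.Lib.NormAmple.Model
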