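import Groth.Agent.Lib.NormAmple.Bundle

/-!
# Descending ampleness along a norm with values in another finite scheme over the base
-/

noncomputable section

universe u

open CategoryTheory CategoryTheory.Limits AlgebraicGeometry Opposite TopologicalSpace

namespace Groth.Agent.Lib.NormAmple.Descend

open TensorMod TensorMod.Basic TensorMod.Dual TensorMod.Gen TensorMod.Pullback Ample.GenLocus Ample.Pow Ample.Extend Ample.Basis
  NormAmple.Basic

variable {X Y Z : Scheme.{u}} (π : X ⟶ Y) (h : Z ⟶ Y)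

/-- Multiplicative maps from sections over `Y` of the first scheme to those of the second. -/
structure RelNorm (d : ℕ) where
  /-- the maps -/
  nrm : ∀ U : Y.Opens, Γ(X, π ⁻¹ᵁ U) →* Γ(Z, h ⁻¹ᵁ U)
  nat : ∀ {U V : Y.Opens} (le : V ≤ U) (s : Γ(X, π ⁻¹ᵁ U)),
    rf (h.preimage_mono le) (nrm U s) = nrm V (rf (π.preimage_mono le) s)
  app : ∀ (U : Y.Opens) (a : Γ(Y, U)), nrm U (π.app U a) = h.app U a ^ d
  mem : ∀ (U : Y.Opens) (s : Γ(X, π ⁻¹ᵁ U)) (z : Z), h z ∈ U →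
    (∀ x, π x = h z → x ∉ X.basicOpen s) → z ∉ Z.basicOpen (nrm U s)

variable {π h} {d : ℕ} (N : RelNorm π h d)

include N in
theorem mem_basicOpen_nrm (hc : IsClosedMap π.base) {U : Y.Opens} (s : Γ(X, π ⁻¹ᵁ U))
    {z : Z} (hz : h z ∈ U) (hs : ∀ x, π x = h z → x ∈ X.basicOpen s) : z ∈ Z.basicOpen (N.nrm U s) := by
  obtain ⟨W, hyW, hW⟩ := exists_nhd_of_fibre hc hs
  let V : Y.Opens := W ⊓ U
  have hu : IsUnit (rf (π.preimage_mono (inf_le_right : V ≤ U)) s) := by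
    refine X.toRingedSpace.isUnit_of_isUnit_germ _ _ fun x hx => ?_
    rw [TopCat.Presheaf.germ_res_apply]
    exact (Scheme.mem_basicOpen X s x ((π.preimage_mono (inf_le_right : V ≤ U)) hx)).1 (hW hx.1)
  have h' := hu.map (N.nrm V)
  rw [← N.nat (inf_le_right : V ≤ U) s] at h'
  refine (Scheme.mem_basicOpen Z _ z hz).2 ?_
  have hzV : z ∈ h ⁻¹ᵁ V := ⟨hyW, hz⟩
  have hv := h'.map (Z.presheaf.germ (h ⁻¹ᵁ V) z hzV).hom
  rwa [TopCat.Presheaf.germ_res_apply] at hv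

include N in
theorem exists_norm_section {L : Y.Modules} (hL : PicF.IsInvertible L) (hc : IsClosedMap π.base) (n : ℕ)
    (s : Coh.structureModule X ⟶ CohB1.tensorPow ((pb π).obj L) n) :
    ∃ t : Coh.structureModule Z ⟶ CohB1.tensorPow ((pb h).obj L) (n * d),
      (∀ z, (∀ x, π x = h z → x ∈ CohB1.genLocus _ s) → z ∈ CohB1.genLocus _ t) ∧
      ∀ z, (∀ x, π x = h z → x ∉ CohB1.genLocus _ s) → z ∉ CohB1.genLocus _ t := by
  choose W e hyW he using isInvertible_iff.1 hL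
  let eX : ∀ y : Y, Γ(CohB1.tensorPow ((pb π).obj L) n, π ⁻¹ᵁ W y) := fun y => powSec (unitSec π L (e y)) n
  have heX : ∀ y, IsGen _ (π ⁻¹ᵁ W y) (eX y) := fun y => isGen_powSec (isGen_unitSec π (he y)) n
  let eZ : ∀ y : Y, Γ(CohB1.tensorPow ((pb h).obj L) (n * d), h ⁻¹ᵁ W y) :=
    fun y => powSec (unitSec h L (e y)) (n * d)
  have heZ : ∀ y, IsGen _ (h ⁻¹ᵁ W y) (eZ y) := fun y => isGen_powSec (isGen_unitSec h (he y)) (n * d)
  choose a ha using fun y => exists_coord (heX y) (sv s (π ⁻¹ᵁ W y))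
  have hcov : ⊤ ≤ ⨆ y, h ⁻¹ᵁ W y := fun z _ => Opens.mem_iSup.2 ⟨h z, hyW (h z)⟩
  have hcompat : ∀ k l, rs (CohB1.tensorPow ((pb h).obj L) (n * d))
      (inf_le_left : h ⁻¹ᵁ W k ⊓ h ⁻¹ᵁ W l ≤ h ⁻¹ᵁ W k) (N.nrm _ (a k) • eZ k) =
      rs _ (inf_le_right : h ⁻¹ᵁ W k ⊓ h ⁻¹ᵁ W l ≤ h ⁻¹ᵁ W l) (N.nrm _ (a l) • eZ l) := fun k l => by
    let V := W k ⊓ W l
    obtain ⟨c, hc⟩ := exists_coord ((he k).res (inf_le_left : V ≤ W k)) (rs L (inf_le_right : V ≤ W l) (e l))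
    have hX : rs _ (π.preimage_mono (inf_le_right : V ≤ W l)) (eX l) =
        (π.app V c) ^ n • rs _ (π.preimage_mono (inf_le_left : V ≤ W k)) (eX k) := by
      change rs _ _ (powSec _ n) = _ • rs _ _ (powSec _ n)
      erw [rs_powSec, rs_powSec, unitSec_rs π (inf_le_right : V ≤ W l) (e l), hc, unitSec_smul, powSec_smul,
        ← unitSec_rs π (inf_le_left : V ≤ W k) (e k)]
    have hZ : rs _ (h.preimage_mono (inf_le_right : V ≤ W l)) (eZ l) =
        (h.app V c) ^ (n * d) • rs _ (h.preimage_mono (inf_le_left : V ≤ W k)) (eZ k) := by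
      change rs _ _ (powSec _ (n * d)) = _ • rs _ _ (powSec _ (n * d))
      erw [rs_powSec, rs_powSec, unitSec_rs h (inf_le_right : V ≤ W l) (e l), hc, unitSec_smul, powSec_smul,
        ← unitSec_rs h (inf_le_left : V ≤ W k) (e k)]
    have h1 := congrArg (rs _ (π.preimage_mono (inf_le_left : V ≤ W k))) (ha k)
    have h2 := congrArg (rs _ (π.preimage_mono (inf_le_right : V ≤ W l))) (ha l)
    rw [rs_sv, rs_smul] at h1 h2
    rw [hX, smul_smul] at h2
    have hab : rf (π.preimage_mono (inf_le_left : V ≤ W k)) (a k) =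
        rf (π.preimage_mono (inf_le_right : V ≤ W l)) (a l) * π.app V c ^ n := by
      have hg := ((heX k).res (π.preimage_mono (inf_le_left : V ≤ W k))) _ le_rfl
      exact hg.1 (by simpa only [rs_self] using h1.symm.trans h2)
    change rs _ (h.preimage_mono (inf_le_left : V ≤ W k)) (N.nrm _ (a k) • eZ k) =
      rs _ (h.preimage_mono (inf_le_right : V ≤ W l)) (N.nrm _ (a l) • eZ l)
    rw [rs_smul, rs_smul, N.nat (inf_le_left : V ≤ W k), N.nat (inf_le_right : V ≤ W l), hZ, smul_smul, hab, map_mul, map_pow, N.app, ← pow_mul']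
  obtain ⟨m, hm, -⟩ := TopCat.Sheaf.existsUnique_gluing'
    ⟨(CohB1.tensorPow ((pb h).obj L) (n * d)).presheaf, (CohB1.tensorPow ((pb h).obj L) (n * d)).isSheaf⟩
    (fun y => h ⁻¹ᵁ W y) ⊤ (fun k => homOfLE le_top) hcov (fun k => N.nrm _ (a k) • eZ k) hcompat
  obtain ⟨t, ht⟩ := exists_hom_of_sec (L := CohB1.tensorPow ((pb h).obj L) (n * d)) m
  have hloc : ∀ k, CohB1.genLocus _ t ⊓ h ⁻¹ᵁ W k = Z.basicOpen (N.nrm (W k) (a k)) := fun k => by
    refine genLocus_inf_eq (heZ k) t ?_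
    rw [← rs_sv t (le_top : h ⁻¹ᵁ W k ≤ ⊤), ht]
    exact hm k
  have hlocX : ∀ k, CohB1.genLocus _ s ⊓ π ⁻¹ᵁ W k = X.basicOpen (a k) := fun k => genLocus_inf_eq (heX k) s (ha k)
  refine ⟨t, fun z hz => ?_, fun z hz hzt => ?_⟩
  · refine ((hloc (h z)).ge (mem_basicOpen_nrm N hc (a (h z)) (hyW _) fun x hx => (hlocX (h z)).le ⟨hz x hx, ?_⟩)).1
    show π x ∈ W (h z)
    rw [hx]
    exact hyW _
  · exact N.mem _ (a (h z)) z (hyW _) (fun x hx hxa => hz x hx ((hlocX (h z)).ge hxa).1)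
      ((hloc (h z)).le ⟨hzt, hyW _⟩)

include N in
theorem isAmple_of_pullback [IsFinite π] [IsFinite h] (hsurj : Function.Surjective π.base) (hd : 0 < d)
    {L : Y.Modules} (hL : PicF.IsInvertible L) (hA : CohB1.IsAmple ((pb π).obj L)) :
    CohB1.IsAmple ((pb h).obj L) := by
  haveI : CompactSpace X := hA.2.1
  haveI : CompactSpace Y := ⟨hsurj.range_eq ▸ isCompact_range π.continuous⟩
  haveI : CompactSpace Z := QuasiCompact.compactSpace_of_compactSpace h
  refine isAmple_iff.2 ⟨PicLoc.isInvertible_pullback _ hL, inferInstance, fun z => ?_⟩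
  obtain ⟨V, hV, hyV, -⟩ := exists_isAffineOpen_mem_and_subset (X := Y) (x := h z) (U := ⊤) (Opens.mem_top _)
  haveI := Ample.Pullback.quasiSeparatedSpace_of_isAmple hA
  obtain ⟨n, hn, s, hs1, hs2, -⟩ := exists_locus_of_finite hA (π.base ⁻¹' {h z}) (π.finite_preimage_singleton _)
    (π ⁻¹ᵁ V) (fun x hx => show π x ∈ V from (show π x = h z from hx) ▸ hyV)
  obtain ⟨t, ht1, ht2⟩ := exists_norm_section N hL π.isClosedMap n s
  have hle : CohB1.genLocus _ t ≤ h ⁻¹ᵁ V := fun z' hz' => by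
    by_contra hV'
    exact ht2 z' (fun x hx hxs => hV' (show h z' ∈ V from hx ▸ hs2 hxs)) hz'
  refine ⟨n * d, Nat.mul_pos hn hd, t, ht1 z fun x hx => hs1 hx, ?_⟩
  have h := isAffineOpen_genLocus_inf
    (Invertible.isInvertible_tensorPow (PicLoc.isInvertible_pullback h hL) (n * d)) t (hV.preimage h)
  rwa [inf_eq_left.2 hle] at h

end Groth.Agent.Lib.NormAmple.Descend
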