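import Groth.Agent.Lib.NormAmple.Model
import Groth.Agent.Lib.NormAmple.Descend

/-!
# The norm with values in the finite birational model
-/

noncomputable section

universe u

open CategoryTheory CategoryTheory.Limits AlgebraicGeometry Opposite TopologicalSpace

namespace Groth.Agent.Lib.NormAmple.Support

open TensorMod.Dual NormAmple.GenStalk AlgGlue.Basic NormAmple.Model

variable {X Y : Scheme.{u}} {π : X ⟶ Y} [IsReduced Y] [IsFinite π] {d : ℕ} (D : Deg π d) (H : IsQC (α π d))

/-- The inverse of the comparison over an affine open. -/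
def thetaEquiv {U : Y.Opens} (hU : IsAffineOpen U) : (F π d).obj (op U) ≃+* Γ(spec H, proj H ⁻¹ᵁ U) :=
  RingEquiv.ofBijective (theta H U) (theta_bijective H hU)

include D in
theorem notMem_basicOpen {U : Y.Opens} (hU : IsAffineOpen U) (s : Γ(X, π ⁻¹ᵁ U)) (z : spec H) (hz : proj H z ∈ U)
    (hs : ∀ x, π x = proj H z → x ∉ X.basicOpen s) :
    z ∉ (spec H).basicOpen (theta H U (nF π d U s)) := by
  intro hn
  let q : Ideal (Bsub π d U) :=
    (IsLocalRing.maximalIdeal ((spec H).presheaf.stalk z)).comap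
      ((((spec H).presheaf.germ (proj H ⁻¹ᵁ U) z hz).hom).comp (theta H U))
  have hq : q.IsPrime := Ideal.comap_isPrime _ _
  have hmem : ∀ b : Bsub π d U, b ∈ q ↔ z ∉ (spec H).basicOpen (theta H U b) := fun b => by
    rw [Scheme.mem_basicOpen (spec H) _ z hz]
    exact IsLocalRing.mem_maximalIdeal _
  refine (hmem (nF π d U s)).1 (nK_mem_prime D hU q hz (fun a => ?_) s hs) hn
  rw [hmem]
  have he : theta H U (⟨toK U a, toK_mem π d U a⟩ : Bsub π d U) = (proj H).app U a := theta_app H U a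
  rw [he, ← Scheme.preimage_basicOpen]
  rfl

include D in
/-- The norm. -/
theorem relNormMem (U : Y.Opens) (s : Γ(X, π ⁻¹ᵁ U)) (z : spec H) (hz : proj H z ∈ U)
    (hs : ∀ x, π x = proj H z → x ∉ X.basicOpen s) : z ∉ (spec H).basicOpen (theta H U (nF π d U s)) := by
  intro hn
  obtain ⟨V, hV, hyV, hVU'⟩ := exists_isAffineOpen_mem_and_subset (X := Y) (x := proj H z) (U := U) hz
  have hVU : V ≤ U := hVU'
  have he : (F π d).map (homOfLE hVU).op (nF π d U s) = nF π d V (rf (π.preimage_mono hVU) s) :=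
    Subtype.ext (resK_nK π d hVU s)
  refine notMem_basicOpen D H hV (rf (π.preimage_mono hVU) s) z hyV (fun x hx hxs => hs x hx ?_) ?_
  · rw [show rf (π.preimage_mono hVU) s = X.presheaf.map (homOfLE (π.preimage_mono hVU)).op s from rfl,
      Scheme.basicOpen_res] at hxs
    exact hxs.2
  · rw [← he]
    erw [← theta_res H hVU (nF π d U s)]
    rw [Scheme.basicOpen_res]
    exact ⟨hyV, hn⟩

/-- The norm with values in the model. -/
def relNorm : Descend.RelNorm π (proj H) d where
  nrm U := (theta H U).toMonoidHom.comp (nF π d U)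
  nat {U V} le s := (theta_res H le (nF π d U s)).trans (congrArg (theta H V) (Subtype.ext (resK_nK π d le s)))
  app U a := by
    have he : nF π d U (π.app U a) = (⟨toK U a, toK_mem π d U a⟩ : Bsub π d U) ^ d := Subtype.ext (nK_app D U a)
    change theta H U (nF π d U (π.app U a)) = _
    rw [he]
    exact (map_pow (theta H U) _ d).trans (congrArg (· ^ d) (theta_app H U a))
  mem U s z hz hs := relNormMem D H U s z hz hs

include D in
theorem dense_preimage (V : Y.Opens) (hV : ∀ η, IsMaxPt η → η ∈ V) :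
    Dense ((proj H ⁻¹ᵁ V : (spec H).Opens) : Set (spec H)) := by
  rw [dense_iff_inter_open]
  rintro O hO ⟨z, hzO⟩
  obtain ⟨U, hU, hyU, -⟩ := exists_isAffineOpen_mem_and_subset (X := Y) (x := proj H z) (U := ⊤) (Opens.mem_top _)
  have hU' : IsAffineOpen (proj H ⁻¹ᵁ U) := isAffineOpen_preimage H hU
  obtain ⟨b, hbO, hzb⟩ := hU'.exists_basicOpen_le (V := ⟨O, hO⟩) ⟨z, hzO⟩ hyU
  let e := thetaEquiv H hU
  have hb : e.symm b ≠ 0 := fun h0 => by
    have hb0 : b = 0 := by rw [← e.apply_symm_apply b, h0, map_zero]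
    rw [hb0, Scheme.basicOpen_zero] at hzb
    exact hzb
  obtain ⟨η, hη⟩ : ∃ η : MaxIn U, (e.symm b : Bsub π d U).1 η ≠ 0 := by
    by_contra hno
    push_neg at hno
    exact hb (Subtype.ext (funext hno))
  let _ := (isField_stalk η.2.1).toField
  let ev : Γ(spec H, proj H ⁻¹ᵁ U) →+* Y.presheaf.stalk η.1 :=
    ((Pi.evalRingHom (fun η : MaxIn U => (Y.presheaf.stalk η.1 : Type u)) η).comp (Bsub π d U).subtype).comp
      e.symm.toRingHom
  have hP : (RingHom.ker ev).IsPrime := RingHom.ker_isPrime ev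
  let w : spec H := hU'.fromSpec (⟨RingHom.ker ev, hP⟩ : PrimeSpectrum _)
  have hwU : w ∈ proj H ⁻¹ᵁ U := by
    have hx : w ∈ Set.range hU'.fromSpec := ⟨_, rfl⟩
    rwa [hU'.range_fromSpec] at hx
  have hmem : ∀ t : Γ(spec H, proj H ⁻¹ᵁ U), w ∈ (spec H).basicOpen t ↔ ev t ≠ 0 := fun t => by
    change (⟨RingHom.ker ev, hP⟩ : PrimeSpectrum _) ∈ hU'.fromSpec ⁻¹ᵁ (spec H).basicOpen t ↔ _
    rw [hU'.fromSpec_preimage_basicOpen]
    rfl
  refine ⟨w, hbO ((hmem b).2 hη), ?_⟩
  have hwη : proj H w = η.1 := eq_of_basicOpen hU hwU η.2.2 fun a => by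
    have h1 : proj H w ∈ Y.basicOpen a ↔ w ∈ (spec H).basicOpen ((proj H).app U a) := by
      rw [← Scheme.preimage_basicOpen]; rfl
    have h2 : ev ((proj H).app U a) = Y.presheaf.germ U η.1 η.2.2 a := by
      have h3 : e.symm ((proj H).app U a) = (α π d).app (op U) a := by
        rw [RingEquiv.symm_apply_eq]
        exact (theta_app H U a).symm
      change (e.symm ((proj H).app U a)).1 η = _
      rw [h3]
      rfl
    rw [h1, hmem, h2, Scheme.mem_basicOpen Y a η.1 η.2.2, isUnit_iff_ne_zero]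
  show proj H w ∈ V
  rw [hwη]
  exact hV _ η.2.1

end Groth.Agent.Lib.NormAmple.Support
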