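import Mathlib.AlgebraicGeometry.Properties
import Mathlib.AlgebraicGeometry.AffineScheme
import Mathlib.AlgebraicGeometry.Morphisms.Finite
import Mathlib.RingTheory.Norm.Defs
import Groth.Prelude.Def_SiteColimFix

/-!
# Generic stalks of the direct image of the structure sheaf
-/

noncomputable section

universe u

open CategoryTheory AlgebraicGeometry Opposite TopologicalSpace

namespace Groth.Agent.Lib.NormAmple.GenStalk

variable {X Y : Scheme.{u}}

/-- A maximal point. -/
def IsMaxPt (η : Y) : Prop := ∀ z : Y, z ⤳ η → z = η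

theorem IsMaxPt.mem_of_specializes_irreducible {η : Y} (hη : IsMaxPt η) :
    closure {η} ∈ irreducibleComponents Y := by
  refine ⟨isIrreducible_singleton.closure, fun Z hZ hle => ?_⟩
  obtain ⟨ζ, hζ⟩ := QuasiSober.sober hZ.closure isClosed_closure
  have h1 : ζ ⤳ η := hζ.specializes (subset_closure (hle (subset_closure rfl)))
  rw [← hη ζ h1, hζ.def]
  exact subset_closure

theorem isField_stalk [IsReduced Y] {η : Y} (hη : IsMaxPt η) : IsField (Y.presheaf.stalk η) :=
  isField_stalk_of_closure_mem_irreducibleComponents Y η hη.mem_of_specializes_irreducible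

theorem exists_isMax_specializes (y : Y) : ∃ η : Y, IsMaxPt η ∧ η ⤳ y := by
  obtain ⟨Z, hZ, hyZ⟩ := exists_mem_irreducibleComponents_subset_of_isIrreducible _
    (isIrreducible_singleton (x := y))
  obtain ⟨η, hη⟩ := QuasiSober.sober hZ.1 (isClosed_of_mem_irreducibleComponents Z hZ)
  refine ⟨η, fun z hz => ?_, hη.specializes (hyZ rfl)⟩
  have h1 : closure {η} ⊆ closure ({z} : Set Y) := specializes_iff_closure_subset.1 hz
  have h2 := hZ.2 isIrreducible_singleton.closure (hη.def.symm ▸ h1)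
  exact (Inseparable.eq (hz.antisymm (specializes_iff_closure_subset.2 (hη.def.symm ▸ h2))))

theorem finite_isMax [NoetherianSpace Y] : Set.Finite {η : Y | IsMaxPt η} := by
  refine Set.Finite.of_finite_image ((NoetherianSpace.finite_irreducibleComponents (α := Y)).subset
    (Set.image_subset_iff.2 fun η hη => IsMaxPt.mem_of_specializes_irreducible hη)) ?_
  intro a _ b _ hab
  exact Inseparable.eq (((specializes_iff_closure_subset (x := a) (y := b)).2 hab.ge).antisymm
    (specializes_iff_closure_subset.2 hab.le))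

theorem eq_zero_of_germ [IsReduced Y] {U : Y.Opens} (n : Γ(Y, U))
    (h : ∀ η, IsMaxPt η → ∀ hη : η ∈ U, Y.presheaf.germ U η hη n = 0) : n = 0 := by
  refine (basicOpen_eq_bot_iff n).1 (eq_bot_iff.2 fun y hy => ?_)
  obtain ⟨η, hη, hηy⟩ := exists_isMax_specializes y
  have hmem : η ∈ Y.basicOpen n := hηy.mem_open (Y.basicOpen n).isOpen hy
  have hu := (Scheme.mem_basicOpen Y n η (Y.basicOpen_le n hmem)).1 hmem
  rw [h η hη (Y.basicOpen_le n hmem)] at hu
  exact (not_isUnit_zero hu).elim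

variable (π : X ⟶ Y)

/-- The direct image of the structure sheaf, as a presheaf of rings. -/
abbrev pushRing : TopCat.Presheaf CommRingCat.{u} Y :=
  (TopCat.Presheaf.pushforward CommRingCat π.base).obj X.presheaf

/-- Its stalk. -/
abbrev B (η : Y) : CommRingCat.{u} := (pushRing π).stalk η

/-- Germs. -/
def pg {η : Y} {U : Y.Opens} (hη : η ∈ U) : Γ(X, π ⁻¹ᵁ U) →+* B π η := ((pushRing π).germ U η hη).hom

/-- The structure map. -/
def bmap (η : Y) : Y.presheaf.stalk η →+* B π η := ((TopCat.Presheaf.stalkFunctor CommRingCat η).map π.c).hom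

instance instAlg (η : Y) : Algebra (Y.presheaf.stalk η) (B π η) := (bmap π η).toAlgebra

theorem pg_res {η : Y} {U V : Y.Opens} (h : V ≤ U) (hη : η ∈ V) (s : Γ(X, π ⁻¹ᵁ U)) :
    pg π hη (X.presheaf.map (homOfLE (π.preimage_mono h)).op s) = pg π (h hη) s :=
  TopCat.Presheaf.germ_res_apply (pushRing π) (homOfLE h) η hη s

theorem pg_app {η : Y} {U : Y.Opens} (hη : η ∈ U) (g : Γ(Y, U)) :
    pg π hη (π.app U g) = algebraMap (Y.presheaf.stalk η) (B π η) (Y.presheaf.germ U η hη g) :=
  (TopCat.Presheaf.stalkFunctor_map_germ_apply U η hη π.c g).symm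

theorem exists_pg {η : Y} (v : B π η) : ∃ (U : Y.Opens) (hη : η ∈ U) (s : Γ(X, π ⁻¹ᵁ U)), pg π hη s = v :=
  (pushRing π).exists_germ_eq v

theorem exists_res_eq {η : Y} {U : Y.Opens} (hη : η ∈ U) {s t : Γ(X, π ⁻¹ᵁ U)} (h : pg π hη s = pg π hη t) :
    ∃ (V : Y.Opens) (hV : V ≤ U), η ∈ V ∧ X.presheaf.map (homOfLE (π.preimage_mono hV)).op s =
      X.presheaf.map (homOfLE (π.preimage_mono hV)).op t := by
  obtain ⟨V, hηV, i₁, i₂, he⟩ := (pushRing π).germ_eq η hη hη s t h
  exact ⟨V, i₁.le, hηV, he⟩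

/-- Germs at points over `η` factor through the generic stalk. -/
theorem germ_eq_zero_of_pg {η : Y} {U : Y.Opens} (hη : η ∈ U) {s : Γ(X, π ⁻¹ᵁ U)} (h : pg π hη s = 0)
    {ξ : X} (hξ : π ξ = η) : X.presheaf.germ (π ⁻¹ᵁ U) ξ (show π ξ ∈ U from hξ ▸ hη) s = 0 := by
  rw [← map_zero (pg π hη)] at h
  obtain ⟨V, hV, hηV, he⟩ := exists_res_eq π hη h
  rw [map_zero] at he
  have hξV : ξ ∈ π ⁻¹ᵁ V := show π ξ ∈ V from hξ ▸ hηV
  rw [← TopCat.Presheaf.germ_res_apply X.presheaf (homOfLE (π.preimage_mono hV)) ξ hξV s, he, map_zero]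

theorem nontrivial_B {η : Y} (h : ∃ ξ, π ξ = η) : Nontrivial (B π η) := by
  obtain ⟨ξ, hξ⟩ := h
  refine ⟨⟨0, 1, fun h01 => ?_⟩⟩
  rw [← map_one (pg π (Opens.mem_top η))] at h01
  have h2 := germ_eq_zero_of_pg π (Opens.mem_top η) h01.symm hξ
  rw [map_one] at h2
  exact one_ne_zero h2

theorem finite_B [IsFinite π] (η : Y) : Module.Finite (Y.presheaf.stalk η) (B π η) := by
  classical
  obtain ⟨V, hV, hηV, -⟩ := exists_isAffineOpen_mem_and_subset (X := Y) (x := η) (U := ⊤) trivial
  letI : Algebra Γ(Y, V) Γ(X, π ⁻¹ᵁ V) := (π.app V).hom.toAlgebra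
  haveI : Module.Finite Γ(Y, V) Γ(X, π ⁻¹ᵁ V) := IsFinite.finite_app π V hV
  obtain ⟨S, hS⟩ := Module.finite_def.1 (inferInstance : Module.Finite Γ(Y, V) Γ(X, π ⁻¹ᵁ V))
  refine ⟨⟨S.image (pg π hηV), eq_top_iff.2 fun v _ => ?_⟩⟩
  obtain ⟨W, hηW, s, rfl⟩ := exists_pg π v
  obtain ⟨f, hfW, hηf⟩ := hV.exists_basicOpen_le (V := W) ⟨η, hηW⟩ hηV
  -- sections over the basic open are fractions
  have hV' : IsAffineOpen (π ⁻¹ᵁ V) := hV.preimage π
  have he : π ⁻¹ᵁ Y.basicOpen f = X.basicOpen (π.app V f) := Scheme.preimage_basicOpen π f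
  haveI := hV'.isLocalization_basicOpen (π.app V f)
  obtain ⟨⟨b, ⟨_, n, rfl⟩⟩, hb⟩ := IsLocalization.surj (Submonoid.powers (π.app V f))
    (X.presheaf.map (homOfLE he.ge).op (X.presheaf.map (homOfLE (π.preimage_mono hfW)).op s))
  have hb' := congrArg (X.presheaf.map (homOfLE he.le).op) hb
  have key : pg π hηW s * algebraMap (Y.presheaf.stalk η) (B π η) (Y.presheaf.germ V η hηV f) ^ n =
      pg π hηV b := by
    have h1 : ∀ z : Γ(X, π ⁻¹ᵁ Y.basicOpen f), X.presheaf.map (homOfLE he.le).op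
        (X.presheaf.map (homOfLE he.ge).op z) = z := fun z => by
      rw [← ConcreteCategory.comp_apply, ← Functor.map_comp,
        Subsingleton.elim ((homOfLE he.ge).op ≫ (homOfLE he.le).op) (𝟙 _), X.presheaf.map_id]
      rfl
    simp only [RingHom.algebraMap_toAlgebra, map_mul, h1] at hb'
    have h2 : ∀ z : Γ(X, π ⁻¹ᵁ V), X.presheaf.map (homOfLE he.le).op
        ((X.presheaf.map (homOfLE (X.basicOpen_le (π.app V f))).op).hom z) =
          X.presheaf.map (homOfLE (π.preimage_mono (Y.basicOpen_le f))).op z := fun z => by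
      change (X.presheaf.map _ ≫ X.presheaf.map _) z = _
      rw [← Functor.map_comp]
      rfl
    have h3 := congrArg (pg π hηf) hb'
    rw [map_mul, h2, h2, pg_res π hfW hηf, pg_res π (Y.basicOpen_le f) hηf, pg_res π (Y.basicOpen_le f) hηf,
      map_pow, pg_app] at h3
    exact h3
  have hu : IsUnit (Y.presheaf.germ V η hηV f) := (Scheme.mem_basicOpen Y f η hηV).1 hηf
  have hmem : pg π hηV b ∈ Submodule.span (Y.presheaf.stalk η) (pg π hηV '' (S : Set _)) := by
    have hbS : b ∈ Submodule.span Γ(Y, V) (S : Set Γ(X, π ⁻¹ᵁ V)) := hS ▸ trivial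
    clear key hb' hb
    induction hbS using Submodule.span_induction with
    | mem x hx => exact Submodule.subset_span ⟨x, hx, rfl⟩
    | zero => rw [map_zero]; exact zero_mem _
    | add x y _ _ hx hy => rw [map_add]; exact add_mem hx hy
    | smul a x _ hx =>
      rw [Algebra.smul_def, RingHom.algebraMap_toAlgebra, map_mul]
      erw [pg_app]
      rw [← Algebra.smul_def]
      exact Submodule.smul_mem _ _ hx
  rw [Finset.coe_image]
  rw [← key, ← map_pow, mul_comm, ← Algebra.smul_def] at hmem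
  exact (Submodule.smul_mem_iff_of_isUnit _ (hu.pow n)).1 hmem

/-- The dimension of the generic stalk. -/
def rk (η : Y) : ℕ := Module.finrank (Y.presheaf.stalk η) (B π η)

theorem rk_pos [IsReduced Y] [IsFinite π] {η : Y} (hη : IsMaxPt η) (h : ∃ ξ, π ξ = η) : 0 < rk π η := by
  letI := (isField_stalk hη).toField
  haveI := finite_B π η
  haveI := nontrivial_B π h
  exact Module.finrank_pos

/-- The norm at a generic point. -/
def nr (η : Y) : B π η →* Y.presheaf.stalk η := Algebra.norm (Y.presheaf.stalk η)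

end Groth.Agent.Lib.NormAmple.GenStalk
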