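import Groth.Agent.Lib.NormAmple.Bundle
import Groth.Agent.Lib.Ample.RelAmple

/-!
# Restricting pre-norms and frames to an open of the base
-/

noncomputable section

universe u

open CategoryTheory CategoryTheory.Limits AlgebraicGeometry Opposite TopologicalSpace

namespace Groth.Agent.Lib.NormAmple.Restrict

open TensorMod TensorMod.Basic TensorMod.Dual TensorMod.Gen TensorMod.Pullback Ample.GenLocus NormAmple.Basic

variable {X Y : Scheme.{u}} {π : X ⟶ Y}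

theorem preimage_image_le (U : Y.Opens) (W : (U : Scheme.{u}).Opens) :
    (π ⁻¹ᵁ U).ι ''ᵁ ((π ∣_ U) ⁻¹ᵁ W) = π ⁻¹ᵁ (U.ι ''ᵁ W) :=
  image_morphismRestrict_preimage π U W

/-- The transported norm map. -/
def nrmR (N : PreNorm π) (U : Y.Opens) (W : (U : Scheme.{u}).Opens) :
    Γ(((π ⁻¹ᵁ U : X.Opens) : Scheme.{u}), (π ∣_ U) ⁻¹ᵁ W) →* Γ((U : Scheme.{u}), W) :=
  (N.nrm (U.ι ''ᵁ W)).comp (X.presheaf.map (homOfLE (preimage_image_le U W).ge).op).hom.toMonoidHom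

theorem mem_basicOpen_opens_iff {Z : Scheme.{u}} (V : Z.Opens) {W : (V : Scheme.{u}).Opens}
    (r : Γ((V : Scheme.{u}), W)) (y : (V : Scheme.{u})) :
    y ∈ (V : Scheme.{u}).basicOpen r ↔ y.1 ∈ Z.basicOpen (show Γ(Z, V.ι ''ᵁ W) from r) := by
  have h := Scheme.image_basicOpen V.ι r
  rw [Scheme.Opens.ι_appIso] at h
  change V.ι ''ᵁ (V : Scheme.{u}).basicOpen r = Z.basicOpen (show Γ(Z, V.ι ''ᵁ W) from r) at h
  constructor
  · exact fun hy => h.le ⟨y, hy, rfl⟩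
  · intro hy
    obtain ⟨z, hz, hzy⟩ := h.ge hy
    exact (Subtype.ext hzy : z = y) ▸ hz

theorem restrict_apply (U : Y.Opens) (x : ((π ⁻¹ᵁ U : X.Opens) : Scheme.{u})) :
    ((π ∣_ U) x).1 = π x.1 := by
  have h := congrArg (fun k => k x) (congrArg (fun k : ((π ⁻¹ᵁ U : X.Opens) : Scheme.{u}) ⟶ Y => ⇑k)
    (morphismRestrict_ι π U))
  exact h

/-- The restricted pre-norm. -/
def PreNorm.restrict (N : PreNorm π) (U : Y.Opens) : PreNorm (π ∣_ U) where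
  nrm := nrmR N U
  nat {W W'} h s := by
    change rf (U.ι.image_mono h) (N.nrm _ (rf (preimage_image_le U W).ge s)) =
      N.nrm _ (rf (preimage_image_le U W').ge (rf ((π ⁻¹ᵁ U).ι.image_mono ((π ∣_ U).preimage_mono h)) s))
    rw [N.nat]
    exact congrArg (N.nrm _) ((rf_rf (preimage_image_le U W).ge (π.preimage_mono (U.ι.image_mono h)) s).trans
      (rf_rf ((π ⁻¹ᵁ U).ι.image_mono ((π ∣_ U).preimage_mono h)) (preimage_image_le U W').ge s).symm)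
  mem W s y hy h hy' := by
    refine N.mem (U.ι ''ᵁ W) (rf (preimage_image_le U W).ge s) y.1 ⟨y, hy, rfl⟩ ?_
      ((mem_basicOpen_opens_iff U (nrmR N U W s) y).1 hy')
    intro x hx hxs
    have hxU : x ∈ π ⁻¹ᵁ U := show π x ∈ U from hx ▸ y.2
    refine h ⟨x, hxU⟩ (Subtype.ext ((restrict_apply U _).trans hx)) ((mem_basicOpen_opens_iff _ s _).2 ?_)
    exact ((Scheme.basicOpen_res X s (homOfLE (preimage_image_le U W).ge).op).le hxs).2

variable {N : PreNorm π} {L : X.Modules} {P : Y.Modules}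

theorem preimage_le_preimage (U : Y.Opens) (W : Y.Opens) :
    (π ∣_ U) ⁻¹ᵁ (U.ι ⁻¹ᵁ W) ≤ (π ⁻¹ᵁ U).ι ⁻¹ᵁ (π ⁻¹ᵁ W) := fun x hx => by
  show π x.1 ∈ W
  rw [← restrict_apply]
  exact hx

/-- Restricted frames. -/
def Frames.restrict (D : Frames N L P) (U : Y.Opens) :
    Frames (PreNorm.restrict N U) ((pb (π ⁻¹ᵁ U).ι).obj L) ((pb U.ι).obj P) where
  ι := D.ι
  W k := U.ι ⁻¹ᵁ D.W k
  cover y := D.cover y.1
  e k := rs _ (preimage_le_preimage U (D.W k)) (unitSec (π ⁻¹ᵁ U).ι L (D.e k))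
  gen k := (isGen_unitSec (π ⁻¹ᵁ U).ι (D.gen k)).res _
  E k := unitSec U.ι P (D.E k)
  genE k := isGen_unitSec U.ι (D.genE k)
  compat k l V hk hl a ha := by
    let V₀ : Y.Opens := U.ι ''ᵁ V
    have hk₀ : V₀ ≤ D.W k := (U.ι.image_mono hk).trans (Set.image_preimage_subset _ _)
    have hl₀ : V₀ ≤ D.W l := (U.ι.image_mono hl).trans (Set.image_preimage_subset _ _)
    obtain ⟨b, hb⟩ := exists_coord ((D.gen k).res (π.preimage_mono hk₀)) (rs L (π.preimage_mono hl₀) (D.e l))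
    have hP := D.compat k l V₀ hk₀ hl₀ b hb
    -- the coefficient upstairs
    let ι' := (π ⁻¹ᵁ U).ι
    have hle : (π ∣_ U) ⁻¹ᵁ V ≤ ι' ⁻¹ᵁ (π ⁻¹ᵁ V₀) := fun x hx =>
      (preimage_image_le U V).le ⟨x, hx, rfl⟩
    have h1 : rs _ hle (unitSec ι' L (rs L (π.preimage_mono hl₀) (D.e l))) =
        rf hle (ι'.app (π ⁻¹ᵁ V₀) b) • rs _ hle (unitSec ι' L (rs L (π.preimage_mono hk₀) (D.e k))) := by
      rw [hb, unitSec_smul]
      exact rs_smul _ _ _ _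
    rw [← unitSec_rs ι' (π.preimage_mono hl₀) (D.e l), ← unitSec_rs ι' (π.preimage_mono hk₀) (D.e k),
      rs_rs, rs_rs] at h1
    simp only [rs_rs] at ha
    have hab : a = rf hle (ι'.app (π ⁻¹ᵁ V₀) b) := by
      have hg := ((isGen_unitSec ι' (D.gen k)).res
        (((π ∣_ U).preimage_mono hk).trans (preimage_le_preimage U (D.W k)))) _ le_rfl
      exact hg.1 (by simpa only [rs_self] using ha.symm.trans h1)
    -- downstairs
    have hle' : V ≤ U.ι ⁻¹ᵁ V₀ := (U.ι.preimage_image_eq V).ge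
    have h2 := congrArg (fun m => rs _ hle' (unitSec U.ι P m)) hP
    rw [unitSec_smul, rs_smul, ← unitSec_rs U.ι hl₀ (D.E l), ← unitSec_rs U.ι hk₀ (D.E k), rs_rs, rs_rs] at h2
    refine h2.trans (congrArg (· • rs _ hk (unitSec U.ι P (D.E k))) ?_)
    rw [hab]
    change rf (U.ι.image_mono hle')
        (rf (show U.ι ''ᵁ U.ι ⁻¹ᵁ V₀ ≤ V₀ by rintro _ ⟨x, hx, rfl⟩; exact hx) (N.nrm V₀ b)) =
      N.nrm V₀ (rf (preimage_image_le U V).ge (rf (ι'.image_mono hle)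
        (rf (show ι' ''ᵁ ι' ⁻¹ᵁ π ⁻¹ᵁ V₀ ≤ π ⁻¹ᵁ V₀ by rintro _ ⟨x, hx, rfl⟩; exact hx) b)))
    rw [rf_rf, rf_rf, rf_rf, rf_self, rf_self]

/-- Relative ampleness of the norm. -/
theorem isRelAmple_norm {S : Scheme.{u}} (f : Y ⟶ S) [QuasiCompact f] [IsFinite π]
    (hsurj : Function.Surjective π.base) (D : Frames N L P) (hP : PicF.IsInvertible P)
    (hA : _root_.RelAmple.IsRelAmple (π ≫ f) L) : _root_.RelAmple.IsRelAmple f P := by
  rw [Ample.RelAmple.isRelAmple_iff] at hA ⊢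
  refine ⟨inferInstance, fun V hV => ?_⟩
  haveI : IsFinite (π ∣_ (f ⁻¹ᵁ V)) := IsZariskiLocalAtTarget.restrict ‹_› _
  refine isAmple_of_frames (fun y => ?_) (Frames.restrict D (f ⁻¹ᵁ V)) (hA.2 V hV)
    (PicLoc.isInvertible_pullback _ hP)
  obtain ⟨x, hx⟩ := hsurj y.1
  exact ⟨⟨x, show π x ∈ f ⁻¹ᵁ V from hx ▸ y.2⟩, Subtype.ext ((restrict_apply _ _).trans hx)⟩

end Groth.Agent.Lib.NormAmple.Restrict
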