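import Groth.Agent.Lib.Ample.Basis
import Groth.Agent.Lib.Ample.Extend
import Groth.Agent.Lib.Ample.Pullback
import Groth.Agent.Lib.TensorMod.FinsetTriv
import Groth.Prelude.Def_Fitting
import Mathlib.AlgebraicGeometry.Morphisms.Finite
import Mathlib.AlgebraicGeometry.Morphisms.QuasiFinite

/-!
# Ampleness descends along a finite morphism with a norm
-/

noncomputable section

universe u

open CategoryTheory CategoryTheory.Limits AlgebraicGeometry Opposite TopologicalSpace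

namespace Groth.Agent.Lib.NormAmple.Basic

open TensorMod TensorMod.Basic TensorMod.Dual TensorMod.Gen Ample.GenLocus Ample.Pow Ample.Extend Ample.Basis

variable {X Y : Scheme.{u}} (π : X ⟶ Y)

/-- Multiplicative maps `Γ(π⁻¹U) → Γ(U)` compatible with restriction, taking functions that vanish on a
whole fibre to functions vanishing at the image point. -/
structure PreNorm where
  /-- The norm maps. -/
  nrm : ∀ U : Y.Opens, Γ(X, π ⁻¹ᵁ U) →* Γ(Y, U)
  nat : ∀ {U V : Y.Opens} (h : V ≤ U) (s : Γ(X, π ⁻¹ᵁ U)),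
    rf h (nrm U s) = nrm V (rf (π.preimage_mono h) s)
  mem : ∀ (U : Y.Opens) (s : Γ(X, π ⁻¹ᵁ U)) (y : Y), y ∈ U →
    (∀ x, π x = y → x ∉ X.basicOpen s) → y ∉ Y.basicOpen (nrm U s)

variable {π}

/-- The pre-norm of a norm of some degree. -/
def ofNorm {d : ℕ} (N : Nrm.NormOfDegree π d) (hsurj : Function.Surjective π.base) : PreNorm π where
  nrm := N.norm
  nat h s := N.norm_res (homOfLE h) s
  mem U s y hy h hyN := by
    obtain ⟨x, rfl⟩ := hsurj y
    have hx : X.presheaf.germ (π ⁻¹ᵁ U) x hy s ∈ IsLocalRing.maximalIdeal (X.presheaf.stalk x) :=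
      (IsLocalRing.mem_maximalIdeal _).2 fun hu => h x rfl ((Scheme.mem_basicOpen X s x hy).2 hu)
    exact (IsLocalRing.mem_maximalIdeal _).1 (N.norm_mem U s x hy hx) ((Scheme.mem_basicOpen Y _ _ hy).1 hyN)

theorem surjective_of_norm {d : ℕ} (N : Nrm.NormOfDegree π d) [QuasiCompact π] (hc : IsClosedMap π.base) :
    Function.Surjective π.base := by
  intro y
  by_contra hne
  let U : Y.Opens := ⟨(Set.range π.base)ᶜ, hc.isClosed_range.isOpen_compl⟩
  have hyU : y ∈ U := fun ⟨x, hx⟩ => hne ⟨x, hx⟩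
  have hbot : π ⁻¹ᵁ U = ⊥ := eq_bot_iff.2 fun x hx => (hx ⟨x, rfl⟩).elim
  haveI : Subsingleton Γ(X, π ⁻¹ᵁ U) := by
    rw [hbot]; infer_instance
  have h0 : N.norm U (π.app U 0) = (0 : Γ(Y, U)) ^ d := N.norm_app U 0
  have h1 : N.norm U (π.app U 1) = (1 : Γ(Y, U)) ^ d := N.norm_app U 1
  rw [Subsingleton.elim (π.app U 0) (π.app U 1), h1, one_pow, zero_pow (by have := N.one_le; omega)] at h0
  have h := (Scheme.mem_basicOpen Y (1 : Γ(Y, U)) y hyU).2 (by simp)
  rw [h0] at h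
  exact (Scheme.mem_basicOpen Y (0 : Γ(Y, U)) y hyU).1 h |>.ne_zero (map_zero _)

theorem exists_nhd_of_fibre (hc : IsClosedMap π.base) {y : Y} {O : X.Opens}
    (h : ∀ x, π x = y → x ∈ O) : ∃ W : Y.Opens, y ∈ W ∧ π ⁻¹ᵁ W ≤ O := by
  refine ⟨⟨(π.base '' (O : Set X)ᶜ)ᶜ, (hc _ O.isOpen.isClosed_compl).isOpen_compl⟩,
    fun ⟨x, hx, hxy⟩ => hx (h x hxy), fun x hx => ?_⟩
  by_contra hxO
  exact hx ⟨x, hxO, rfl⟩

theorem mem_basicOpen_nrm (N : PreNorm π) (hc : IsClosedMap π.base) {U : Y.Opens} (s : Γ(X, π ⁻¹ᵁ U))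
    {y : Y} (hy : y ∈ U) (h : ∀ x, π x = y → x ∈ X.basicOpen s) : y ∈ Y.basicOpen (N.nrm U s) := by
  obtain ⟨W, hyW, hW⟩ := exists_nhd_of_fibre hc h
  let V : Y.Opens := W ⊓ U
  have hu : IsUnit (rf (π.preimage_mono (inf_le_right : V ≤ U)) s) := by
    refine X.toRingedSpace.isUnit_of_isUnit_germ _ _ fun x hx => ?_
    rw [TopCat.Presheaf.germ_res_apply]
    exact (Scheme.mem_basicOpen X s x ((π.preimage_mono (inf_le_right : V ≤ U)) hx)).1 (hW hx.1)
  have h' := hu.map (N.nrm V)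
  rw [← N.nat (inf_le_right : V ≤ U) s] at h'
  refine (Scheme.mem_basicOpen Y _ y hy).2 ?_
  have hv := h'.map (Y.presheaf.germ V y ⟨hyW, hy⟩).hom
  rwa [TopCat.Presheaf.germ_res_apply] at hv

variable (N : PreNorm π) (L' : X.Modules) (P : Y.Modules)

/-- Frames exhibiting `P` as the norm of `L'`. -/
structure Frames where
  /-- indices -/
  ι : Type u
  /-- the cover -/
  W : ι → Y.Opens
  cover : ∀ y, ∃ k, y ∈ W k
  /-- generators of `L'` -/
  e : ∀ k, Γ(L', π ⁻¹ᵁ W k)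
  gen : ∀ k, IsGen L' (π ⁻¹ᵁ W k) (e k)
  /-- generators of `P` -/
  E : ∀ k, Γ(P, W k)
  genE : ∀ k, IsGen P (W k) (E k)
  compat : ∀ (k l : ι) (V : Y.Opens) (hk : V ≤ W k) (hl : V ≤ W l) (a : Γ(X, π ⁻¹ᵁ V)),
    rs L' (π.preimage_mono hl) (e l) = a • rs L' (π.preimage_mono hk) (e k) →
      rs P hl (E l) = N.nrm V a • rs P hk (E k)

variable {N L' P}

/-- Tensor powers of frames. -/
def Frames.pow (D : Frames N L' P) (n : ℕ) : Frames N (CohB1.tensorPow L' n) (CohB1.tensorPow P n) where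
  ι := D.ι
  W := D.W
  cover := D.cover
  e k := powSec (D.e k) n
  gen k := isGen_powSec (D.gen k) n
  E k := powSec (D.E k) n
  genE k := isGen_powSec (D.genE k) n
  compat k l V hk hl a ha := by
    obtain ⟨b, hb⟩ := exists_coord ((D.gen k).res (π.preimage_mono hk)) (rs L' (π.preimage_mono hl) (D.e l))
    have h := D.compat k l V hk hl b hb
    rw [rs_powSec, rs_powSec, hb, powSec_smul] at ha
    have hab : b ^ n = a := by
      have hg := (isGen_powSec ((D.gen k).res (π.preimage_mono hk)) n) _ le_rfl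
      exact hg.1 (by simpa only [rs_self] using ha)
    rw [rs_powSec, rs_powSec, h, powSec_smul, ← map_pow, hab]

/-- The norm of a global section. -/
theorem exists_norm_section (D : Frames N L' P) (s : Coh.structureModule X ⟶ L') :
    ∃ t : Coh.structureModule Y ⟶ P, ∀ k, ∃ a : Γ(X, π ⁻¹ᵁ D.W k),
      CohB1.genLocus L' s ⊓ π ⁻¹ᵁ D.W k = X.basicOpen a ∧
        CohB1.genLocus P t ⊓ D.W k = Y.basicOpen (N.nrm (D.W k) a) := by
  choose a ha using fun k => exists_coord (D.gen k) (sv s (π ⁻¹ᵁ D.W k))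
  have hcov : ⊤ ≤ ⨆ k, D.W k := fun y _ => by
    obtain ⟨k, hk⟩ := D.cover y
    exact Opens.mem_iSup.2 ⟨k, hk⟩
  have hc : ∀ k l, rs P (inf_le_left : D.W k ⊓ D.W l ≤ D.W k) (N.nrm _ (a k) • D.E k) =
      rs P (inf_le_right : D.W k ⊓ D.W l ≤ D.W l) (N.nrm _ (a l) • D.E l) := fun k l => by
    set V := D.W k ⊓ D.W l
    obtain ⟨b, hb⟩ := exists_coord ((D.gen k).res (π.preimage_mono (inf_le_left : V ≤ _)))
      (rs L' (π.preimage_mono (inf_le_right : V ≤ _)) (D.e l))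
    have h1 := congrArg (rs L' (π.preimage_mono (inf_le_left : V ≤ D.W k))) (ha k)
    have h2 := congrArg (rs L' (π.preimage_mono (inf_le_right : V ≤ D.W l))) (ha l)
    rw [rs_sv, rs_smul] at h1 h2
    rw [hb, smul_smul] at h2
    have hab : rf (π.preimage_mono (inf_le_left : V ≤ D.W k)) (a k) =
        rf (π.preimage_mono (inf_le_right : V ≤ D.W l)) (a l) * b := by
      have hg := ((D.gen k).res (π.preimage_mono (inf_le_left : V ≤ D.W k))) _ le_rfl
      exact hg.1 (by simpa only [rs_self] using h1.symm.trans h2)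
    rw [rs_smul, rs_smul, N.nat, N.nat, D.compat k l V inf_le_left inf_le_right b hb, smul_smul, ← map_mul, hab]
  obtain ⟨m, hm, -⟩ := TopCat.Sheaf.existsUnique_gluing' ⟨P.presheaf, P.isSheaf⟩ D.W ⊤
    (fun k => homOfLE le_top) hcov (fun k => N.nrm _ (a k) • D.E k) hc
  obtain ⟨t, ht⟩ := exists_hom_of_sec (L := P) m
  refine ⟨t, fun k => ⟨a k, genLocus_inf_eq (D.gen k) s (ha k), genLocus_inf_eq (D.genE k) t ?_⟩⟩
  rw [← rs_sv t (le_top : D.W k ≤ ⊤), ht]
  exact hm k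

/-- The norm of a section is nonvanishing exactly over fibres (weakly). -/
theorem norm_section_locus (D : Frames N L' P) (hc : IsClosedMap π.base) (s : Coh.structureModule X ⟶ L') :
    ∃ t : Coh.structureModule Y ⟶ P,
      (∀ y, (∀ x, π x = y → x ∈ CohB1.genLocus L' s) → y ∈ CohB1.genLocus P t) ∧
      ∀ y, (∀ x, π x = y → x ∉ CohB1.genLocus L' s) → y ∉ CohB1.genLocus P t := by
  obtain ⟨t, ht⟩ := exists_norm_section D s
  refine ⟨t, fun y h => ?_, fun y h hyt => ?_⟩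
  · obtain ⟨k, hk⟩ := D.cover y
    obtain ⟨a, ha, hta⟩ := ht k
    refine (hta.ge (mem_basicOpen_nrm N hc a hk fun x hx => ha.le ⟨h x hx, ?_⟩)).1
    exact (hx ▸ hk : π x ∈ D.W k)
  · obtain ⟨k, hk⟩ := D.cover y
    obtain ⟨a, ha, hta⟩ := ht k
    exact N.mem _ a y hk (fun x hx hxa => h x hx (ha.ge hxa).1) (hta.le ⟨hyt, hk⟩)

/-- Ampleness descends. -/
theorem isAmple_of_frames [IsFinite π] (hsurj : Function.Surjective π.base) (D : Frames N L' P)
    (hL' : CohB1.IsAmple L') (hP : PicF.IsInvertible P) : CohB1.IsAmple P := by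
  haveI := hL'.2.1
  haveI := Ample.Pullback.quasiSeparatedSpace_of_isAmple hL'
  haveI : CompactSpace Y := ⟨hsurj.range_eq ▸ isCompact_range π.continuous⟩
  refine isAmple_iff.2 ⟨hP, inferInstance, fun y => ?_⟩
  obtain ⟨V, hV, hyV, -⟩ := exists_isAffineOpen_mem_and_subset (X := Y) (x := y) (U := ⊤) trivial
  obtain ⟨n, hn, s, hs1, hs2, -⟩ := exists_locus_of_finite hL' (π.base ⁻¹' {y}) (π.finite_preimage_singleton y)
    (π ⁻¹ᵁ V) (fun x hx => show π x ∈ V from (show π x = y from hx) ▸ hyV)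
  obtain ⟨t, ht1, ht2⟩ := norm_section_locus (D.pow n) π.isClosedMap s
  have hle : CohB1.genLocus _ t ≤ V := fun y' hy' => by
    by_contra hV'
    exact ht2 y' (fun x hx hxs => hV' (hx ▸ hs2 hxs)) hy'
  refine ⟨n, hn, t, ht1 y fun x hx => hs1 hx, ?_⟩
  have h := isAffineOpen_genLocus_inf (Invertible.isInvertible_tensorPow hP n) t hV
  rwa [inf_eq_left.2 hle] at h

end Groth.Agent.Lib.NormAmple.Basic
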