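import Groth.Agent.Lib.NormAmple.Basic
import Mathlib.RingTheory.Norm.Defs

/-!
# The determinant norm of a morphism with finite locally free direct image of the structure sheaf
-/

noncomputable section

universe u

open CategoryTheory CategoryTheory.Limits AlgebraicGeometry Opposite TopologicalSpace

namespace Groth.Agent.Lib.NormAmple.FinFree

open TensorMod TensorMod.Basic TensorMod.Dual TensorMod.Basis NormAmple.Basic

variable {X Y : Scheme.{u}} (π : X ⟶ Y)

/-- Sections over `W` forming a basis of `Γ(π⁻¹V)` over `Γ(V)` for all `V ≤ W`. -/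
structure Chart where
  /-- the open -/
  W : Y.Opens
  /-- the rank -/
  r : ℕ
  /-- the basis -/
  b : Fin r → Γ(X, π ⁻¹ᵁ W)
  bij : ∀ (V : Y.Opens) (h : V ≤ W),
    Function.Bijective fun a : Fin r → Γ(Y, V) => ∑ k, π.app V (a k) * rf (π.preimage_mono h) (b k)

variable {π}

theorem exists_chart (h : FlatMod.IsFinLocFree ((Coh.push π).obj (Coh.structureModule X))) (y : Y) :
    ∃ c : Chart π, y ∈ c.W := by
  obtain ⟨U, n, hy, ⟨i⟩⟩ := h y
  obtain ⟨e, he⟩ := exists_basis_of_iso i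
  exact ⟨⟨U, n, fun k => e k, fun V hV => he V hV⟩, hy⟩

/-- The algebra structure on the functions over the preimage. -/
@[implicit_reducible]
def alg (π : X ⟶ Y) (V : Y.Opens) : Algebra Γ(Y, V) Γ(X, π ⁻¹ᵁ V) := (π.app V).hom.toAlgebra

/-- The determinant of multiplication. -/
def det (π : X ⟶ Y) (V : Y.Opens) : Γ(X, π ⁻¹ᵁ V) →* Γ(Y, V) :=
  letI := alg π V
  Algebra.norm Γ(Y, V)

/-- The basis over a smaller open. -/
def Chart.basis (c : Chart π) {V : Y.Opens} (h : V ≤ c.W) :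
    letI := alg π V
    Module.Basis (Fin c.r) Γ(Y, V) Γ(X, π ⁻¹ᵁ V) :=
  letI := alg π V
  Module.Basis.ofEquivFun (LinearEquiv.ofBijective
    ({ toFun := fun a => ∑ k, π.app V (a k) * rf (π.preimage_mono h) (c.b k)
       map_add' := fun a a' => by simp only [Pi.add_apply, map_add, add_mul, Finset.sum_add_distrib]
       map_smul' := fun z a => by
        rw [RingHom.id_apply]
        change _ = π.app V z * ∑ k, π.app V (a k) * rf (π.preimage_mono h) (c.b k)
        rw [Finset.mul_sum]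
        refine Finset.sum_congr rfl fun k _ => ?_
        rw [Pi.smul_apply, smul_eq_mul, map_mul, mul_assoc] } : (Fin c.r → Γ(Y, V)) →ₗ[Γ(Y, V)] Γ(X, π ⁻¹ᵁ V)) (c.bij V h)).symm

theorem Chart.sum_repr (c : Chart π) {V : Y.Opens} (h : V ≤ c.W) (z : Γ(X, π ⁻¹ᵁ V)) :
    (letI := alg π V; ∑ k, π.app V ((c.basis h).equivFun z k) * rf (π.preimage_mono h) (c.b k)) = z := by
  letI := alg π V
  have h1 := (c.basis h).equivFun.symm_apply_apply z
  conv_rhs => rw [← h1]
  rw [Chart.basis, Module.Basis.equivFun_ofEquivFun, LinearEquiv.symm_symm]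
  rfl

theorem Chart.basis_apply (c : Chart π) {V : Y.Opens} (h : V ≤ c.W) (k : Fin c.r) :
    (letI := alg π V; (c.basis h) k) = rf (π.preimage_mono h) (c.b k) := by
  classical
  letI := alg π V
  rw [Chart.basis, Module.Basis.coe_ofEquivFun, LinearEquiv.symm_symm]
  change ∑ l, π.app V ((Pi.single k 1 : Fin c.r → Γ(Y, V)) l) * rf (π.preimage_mono h) (c.b l) = _
  rw [Finset.sum_eq_single k]
  · rw [Pi.single_eq_same, map_one, one_mul]
  · intro l _ hl
    rw [Pi.single_eq_of_ne hl, map_zero, zero_mul]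
  · exact fun h => (h (Finset.mem_univ k)).elim

theorem det_res (c : Chart π) {V V' : Y.Opens} (h : V ≤ c.W) (h' : V' ≤ V) (s : Γ(X, π ⁻¹ᵁ V)) :
    rf h' (det π V s) = det π V' (rf (π.preimage_mono h') s) := by
  classical
  letI a1 := alg π V
  letI a2 := alg π V'
  change rf h' (Algebra.norm Γ(Y, V) s) = Algebra.norm Γ(Y, V') (rf (π.preimage_mono h') s)
  rw [Algebra.norm_eq_matrix_det (c.basis h), Algebra.norm_eq_matrix_det (c.basis (h'.trans h))]
  refine ((Y.presheaf.map (homOfLE h').op).hom.map_det _).trans (congrArg Matrix.det ?_)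
  ext i j
  rw [RingHom.mapMatrix_apply, Matrix.map_apply, Algebra.leftMulMatrix_eq_repr_mul,
    Algebra.leftMulMatrix_eq_repr_mul, c.basis_apply, c.basis_apply]
  have hsum := c.sum_repr h (s * rf (π.preimage_mono h) (c.b j))
  have hsum' := congrArg (rf (π.preimage_mono h')) hsum
  simp only [rf, map_sum, map_mul] at hsum'
  have hinj := (c.bij V' (h'.trans h)).1
  refine congrFun (hinj (a₁ := fun k => rf h' ((c.basis h).equivFun (s * rf (π.preimage_mono h) (c.b j)) k))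
    (a₂ := fun k => (c.basis (h'.trans h)).equivFun
      (rf (π.preimage_mono h') s * rf (π.preimage_mono (h'.trans h)) (c.b j)) k) ?_) i
  beta_reduce
  rw [c.sum_repr]
  refine Eq.trans ?_ (hsum'.trans ?_)
  · refine Finset.sum_congr rfl fun k _ => ?_
    refine congrArg₂ (· * ·) ?_ (rf_rf (π.preimage_mono h) (π.preimage_mono h') (c.b k)).symm
    exact congr($(π.naturality (homOfLE h').op) ((c.basis h).equivFun (s * rf (π.preimage_mono h) (c.b j)) k))
  · exact congrArg (rf (π.preimage_mono h') s * ·) (rf_rf (π.preimage_mono h) (π.preimage_mono h') (c.b j))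

theorem isUnit_of_det (c : Chart π) {V : Y.Opens} (h : V ≤ c.W) {s : Γ(X, π ⁻¹ᵁ V)}
    (hs : IsUnit (det π V s)) : IsUnit s := by
  classical
  letI := alg π V
  change IsUnit (Algebra.norm Γ(Y, V) s) at hs
  rw [Algebra.norm_eq_matrix_det (c.basis h), ← Matrix.isUnit_iff_isUnit_det] at hs
  obtain ⟨M, hM⟩ := hs
  obtain ⟨z, hz⟩ : ∃ z, s * z = 1 := by
    let f := Algebra.lmul Γ(Y, V) Γ(X, π ⁻¹ᵁ V) s
    refine ⟨Matrix.toLin (c.basis h) (c.basis h) (↑M⁻¹) 1, ?_⟩
    have hf : Matrix.toLin (c.basis h) (c.basis h) (Algebra.leftMulMatrix (c.basis h) s) = f := by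
      rw [← Algebra.toMatrix_lmul_eq, Matrix.toLin_toMatrix]
      rfl
    have h2 : f (Matrix.toLin (c.basis h) (c.basis h) (↑M⁻¹) 1) = 1 := by
      rw [← hf, ← LinearMap.comp_apply, ← Matrix.toLin_mul, ← hM, Units.mul_inv, Matrix.toLin_one]
      rfl
    exact h2
  exact .of_mul_eq_one z hz

variable (π) in
/-- A cover by charts with an exponent attached to each rank. -/
structure Atlas where
  /-- exponents -/
  ex : ℕ → ℕ
  pos : ∀ c : Chart π, ∀ y ∈ c.W, 0 < c.r → 0 < ex c.r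
  /-- chosen chart at a point -/
  chart : Y → Chart π
  mem : ∀ y, y ∈ (chart y).W

theorem rank_unique (c c' : Chart π) {V : Y.Opens} (h : V ≤ c.W) (h' : V ≤ c'.W) (hV : Nontrivial Γ(Y, V)) :
    c.r = c'.r := by
  letI := alg π V
  haveI := hV
  simpa using (Module.finrank_eq_card_basis (c.basis h)).symm.trans (Module.finrank_eq_card_basis (c'.basis h'))

theorem pow_ex_eq (A : Atlas π) (c c' : Chart π) {V : Y.Opens} (h : V ≤ c.W) (h' : V ≤ c'.W) (z : Γ(Y, V)) :
    z ^ A.ex c.r = z ^ A.ex c'.r := by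
  rcases subsingleton_or_nontrivial Γ(Y, V) with hs | hn
  · exact Subsingleton.elim _ _
  · rw [rank_unique c c' h h' hn]

theorem existsUnique_nrm (A : Atlas π) (U : Y.Opens) (s : Γ(X, π ⁻¹ᵁ U)) :
    ∃! n : Γ(Y, U), ∀ (c : Chart π) (V : Y.Opens) (h : V ≤ U) (_ : V ≤ c.W),
      rf h n = det π V (rf (π.preimage_mono h) s) ^ A.ex c.r := by
  let V₀ : U → Y.Opens := fun y => U ⊓ (A.chart y.1).W
  have hcov : U ≤ ⨆ y, V₀ y := fun y hy => Opens.mem_iSup.2 ⟨⟨y, hy⟩, hy, A.mem y⟩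
  let sf : ∀ y : U, Γ(Y, V₀ y) := fun y =>
    det π (V₀ y) (rf (π.preimage_mono inf_le_left) s) ^ A.ex (A.chart y.1).r
  obtain ⟨n, hn, huniq⟩ := Y.sheaf.existsUnique_gluing' V₀ U (fun y => homOfLE inf_le_left) hcov sf
    (fun y z => by
      change rf (inf_le_left : V₀ y ⊓ V₀ z ≤ V₀ y) _ = rf inf_le_right _
      simp only [sf, rf, map_pow]
      rw [show Y.presheaf.map (homOfLE (inf_le_left : V₀ y ⊓ V₀ z ≤ V₀ y)).op (det π (V₀ y) _) = _ from
          det_res (A.chart y.1) inf_le_right inf_le_left _,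
        show Y.presheaf.map (homOfLE (inf_le_right : V₀ y ⊓ V₀ z ≤ V₀ z)).op (det π (V₀ z) _) = _ from
          det_res (A.chart z.1) inf_le_right inf_le_right _, rf_rf, rf_rf]
      exact pow_ex_eq A _ _ (inf_le_left.trans inf_le_right) (inf_le_right.trans inf_le_right) _)
  refine ⟨n, fun c V h hc => ?_, fun n' hn' => huniq n' fun y => hn' (A.chart y.1) (V₀ y) inf_le_left inf_le_right⟩
  refine Y.sheaf.eq_of_locally_eq' (fun y : U => V ⊓ (A.chart y.1).W) V (fun y => homOfLE inf_le_left)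
    (fun y hy => Opens.mem_iSup.2 ⟨⟨y, h hy⟩, hy, A.mem y⟩) _ _ fun y => ?_
  change rf inf_le_left (rf h n) = rf inf_le_left _
  have hle : V ⊓ (A.chart y.1).W ≤ V₀ y := le_inf (inf_le_left.trans h) inf_le_right
  have h1 := congrArg (rf hle) (show rf inf_le_left n = sf y from hn y)
  rw [rf_rf] at h1
  rw [rf_rf, h1]
  simp only [sf, rf, map_pow]
  rw [show Y.presheaf.map (homOfLE hle).op (det π (V₀ y) _) = _ from det_res (A.chart y.1) inf_le_right hle _,
    show Y.presheaf.map (homOfLE (inf_le_left : V ⊓ (A.chart y.1).W ≤ V)).op (det π V _) = _ from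
      det_res c hc inf_le_left _, rf_rf, rf_rf]
  exact pow_ex_eq A _ _ inf_le_right (inf_le_left.trans hc) _

/-- The glued norm. -/
def nrm (A : Atlas π) (U : Y.Opens) (s : Γ(X, π ⁻¹ᵁ U)) : Γ(Y, U) := (existsUnique_nrm A U s).choose

theorem nrm_spec (A : Atlas π) {U : Y.Opens} (s : Γ(X, π ⁻¹ᵁ U)) (c : Chart π) {V : Y.Opens} (h : V ≤ U)
    (hc : V ≤ c.W) : rf h (nrm A U s) = det π V (rf (π.preimage_mono h) s) ^ A.ex c.r :=
  (existsUnique_nrm A U s).choose_spec.1 c V h hc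

theorem nrm_eq (A : Atlas π) {U : Y.Opens} (s : Γ(X, π ⁻¹ᵁ U)) (n : Γ(Y, U))
    (hn : ∀ (c : Chart π) (V : Y.Opens) (h : V ≤ U) (_ : V ≤ c.W),
      rf h n = det π V (rf (π.preimage_mono h) s) ^ A.ex c.r) : nrm A U s = n :=
  ((existsUnique_nrm A U s).choose_spec.2 n hn).symm

/-- The norm as monoid maps. -/
def nrmHom (A : Atlas π) (U : Y.Opens) : Γ(X, π ⁻¹ᵁ U) →* Γ(Y, U) where
  toFun := nrm A U
  map_one' := nrm_eq A 1 1 fun c V h hc => by simp only [rf, map_one, one_pow]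
  map_mul' s t := nrm_eq A _ _ fun c V h hc => by
    change rf h (nrm A U s * nrm A U t) = _
    simp only [rf, map_mul, mul_pow]
    exact congrArg₂ (· * ·) (nrm_spec A s c h hc) (nrm_spec A t c h hc)

theorem nrmHom_nat (A : Atlas π) {U V : Y.Opens} (h : V ≤ U) (s : Γ(X, π ⁻¹ᵁ U)) :
    rf h (nrmHom A U s) = nrmHom A V (rf (π.preimage_mono h) s) := by
  refine (nrm_eq A _ _ fun c V' h' hc => ?_).symm
  rw [rf_rf, rf_rf]
  exact nrm_spec A s c (h'.trans h) hc

theorem mem_of_mem_basicOpen_nrm (A : Atlas π) {U : Y.Opens} (s : Γ(X, π ⁻¹ᵁ U)) {x : X}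
    (hx : π x ∈ Y.basicOpen (nrm A U s)) : x ∈ X.basicOpen s := by
  let V : Y.Opens := Y.basicOpen (nrm A U s) ⊓ (A.chart (π x)).W
  have hVU : V ≤ U := inf_le_left.trans (Y.basicOpen_le _)
  have hxV : π x ∈ V := ⟨hx, A.mem _⟩
  have hu : IsUnit (rf hVU (nrm A U s)) := by
    have h1 := (Y.toRingedSpace.isUnit_res_basicOpen (nrm A U s)).map
      (Y.presheaf.map (homOfLE (inf_le_left : V ≤ _)).op).hom
    exact (rf_rf (Y.basicOpen_le _) (inf_le_left : V ≤ _) (nrm A U s)) ▸ h1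
  rw [nrm_spec A s (A.chart (π x)) hVU inf_le_right] at hu
  rcases Nat.eq_zero_or_pos (A.chart (π x)).r with h0 | hpos
  · -- rank zero: the fibre is empty
    exfalso
    let c := A.chart (π x)
    letI := alg π V
    haveI : IsEmpty (Fin c.r) := by rw [h0]; exact Fin.isEmpty
    haveI : Subsingleton Γ(X, π ⁻¹ᵁ V) := (c.basis (inf_le_right : V ≤ c.W)).repr.toEquiv.subsingleton
    have h1 := (Scheme.mem_basicOpen X (1 : Γ(X, π ⁻¹ᵁ V)) x hxV).2 (by simp)
    rw [Subsingleton.elim (1 : Γ(X, π ⁻¹ᵁ V)) 0] at h1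
    exact ((Scheme.mem_basicOpen X _ x hxV).1 h1).ne_zero (map_zero _)
  have hd := (isUnit_pow_iff (A.pos _ _ (A.mem (π x)) hpos).ne').1 hu
  have hs := (isUnit_of_det (A.chart (π x)) inf_le_right hd).map (X.presheaf.germ (π ⁻¹ᵁ V) x hxV).hom
  refine (Scheme.mem_basicOpen X s x (hVU hxV)).2 ?_
  exact (TopCat.Presheaf.germ_res_apply X.presheaf (homOfLE (π.preimage_mono hVU)) x hxV s) ▸ hs

theorem nrm_app (A : Atlas π) {d : ℕ} (hd : ∀ c : Chart π, ∀ y ∈ c.W, c.r * A.ex c.r = d) (U : Y.Opens)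
    (g : Γ(Y, U)) : nrm A U (π.app U g) = g ^ d := by
  refine nrm_eq A _ _ fun c V h hc => ?_
  rcases subsingleton_or_nontrivial Γ(Y, V) with hs | hn
  · exact Subsingleton.elim _ _
  obtain ⟨y, hy⟩ : ∃ y, y ∈ V := by
    by_contra hne
    have hbot : V = ⊥ := eq_bot_iff.2 fun y hy => (hne ⟨y, hy⟩).elim
    subst hbot
    exact not_subsingleton Γ(Y, (⊥ : Y.Opens)) inferInstance
  have h1 : rf (π.preimage_mono h) (π.app U g) = π.app V (rf h g) :=
    congr($((π.naturality (homOfLE h).op).symm) g)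
  rw [h1, show rf h (g ^ d) = rf h g ^ d from map_pow _ _ _]
  letI := alg π V
  rw [show det π V (π.app V (rf h g)) = rf h g ^ c.r from
    (Algebra.norm_algebraMap_of_basis (c.basis hc) (rf h g)).trans (by simp), ← pow_mul, hd c y (hc hy)]

end Groth.Agent.Lib.NormAmple.FinFree
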