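import Mathlib.AlgebraicGeometry.Morphisms.ClosedImmersion
import Mathlib.AlgebraicGeometry.Noetherian
import Mathlib.RingTheory.Noetherian.Nilpotent
import Mathlib.Algebra.CharP.Lemmas
import Groth.Prelude.Def_Fitting

/-!
# The Frobenius power norm of a nilimmersion
-/

noncomputable section

universe u

open CategoryTheory AlgebraicGeometry Opposite TopologicalSpace

namespace Groth.Agent.Lib.NormAmple.FrobNorm

variable {X Z : Scheme.{u}} (ι : Z ⟶ X) [IsClosedImmersion ι] (q : ℕ)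
  (hadd : ∀ (U : X.Opens) (t t' : Γ(X, U)), ι.app U t = ι.app U t' → t ^ q = t' ^ q)

abbrev rX {U V : X.Opens} (h : V ≤ U) (t : Γ(X, U)) : Γ(X, V) := X.presheaf.map (homOfLE h).op t

abbrev rZ {U V : X.Opens} (h : V ≤ U) (t : Γ(Z, ι ⁻¹ᵁ U)) : Γ(Z, ι ⁻¹ᵁ V) :=
  Z.presheaf.map (homOfLE (ι.preimage_mono h)).op t

omit [IsClosedImmersion ι] in
theorem app_rX {U V : X.Opens} (h : V ≤ U) (t : Γ(X, U)) : ι.app V (rX h t) = rZ ι h (ι.app U t) :=
  congr($(ι.naturality (homOfLE h).op) t)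

theorem rX_rX {U V W : X.Opens} (h : V ≤ U) (h' : W ≤ V) (t : Γ(X, U)) : rX h' (rX h t) = rX (h'.trans h) t := by
  change (X.presheaf.map _ ≫ X.presheaf.map _) t = _
  rw [← Functor.map_comp]; rfl

omit [IsClosedImmersion ι] in
theorem rZ_rZ {U V W : X.Opens} (h : V ≤ U) (h' : W ≤ V) (t : Γ(Z, ι ⁻¹ᵁ U)) :
    rZ ι h' (rZ ι h t) = rZ ι (h'.trans h) t := by
  change (Z.presheaf.map _ ≫ Z.presheaf.map _) t = _
  rw [← Functor.map_comp]; rfl

theorem exists_lift {U : X.Opens} (s : Γ(Z, ι ⁻¹ᵁ U)) {y : X} (hy : y ∈ U) :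
    ∃ (V : X.Opens) (h : V ≤ U), y ∈ V ∧ ∃ t, ι.app V t = rZ ι h s := by
  obtain ⟨V, hV, hyV, hVU⟩ := exists_isAffineOpen_mem_and_subset (X := X) (x := y) (U := U) hy
  exact ⟨V, hVU, hyV, ι.app_surjective V hV _⟩

include hadd in
theorem existsUnique_norm (U : X.Opens) (s : Γ(Z, ι ⁻¹ᵁ U)) :
    ∃! n : Γ(X, U), ∀ (V : X.Opens) (h : V ≤ U) (t : Γ(X, V)), ι.app V t = rZ ι h s → rX h n = t ^ q := by
  choose V hVU hyV t ht using fun y : U => exists_lift ι s y.2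
  have hcov : U ≤ ⨆ y, V y := fun y hy => Opens.mem_iSup.2 ⟨⟨y, hy⟩, hyV ⟨y, hy⟩⟩
  obtain ⟨n, hn, hu⟩ := X.sheaf.existsUnique_gluing' V U (fun y => homOfLE (hVU y)) hcov
    (fun y => t y ^ q) fun y z => by
      change rX inf_le_left _ = rX inf_le_right _
      simp only [rX, map_pow]
      refine hadd _ _ _ ?_
      rw [app_rX, app_rX, ht, ht, rZ_rZ, rZ_rZ]
  refine ⟨n, fun W hW w hw => ?_, fun n' hn' => hu n' fun y => hn' _ (hVU y) (t y) (ht y)⟩
  refine X.sheaf.eq_of_locally_eq' (fun y : U => W ⊓ V y) W (fun y => homOfLE inf_le_left)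
    (fun y hy => Opens.mem_iSup.2 ⟨⟨y, hW hy⟩, hy, hyV _⟩) _ _ fun y => ?_
  change rX inf_le_left (rX hW n) = rX inf_le_left (w ^ q)
  rw [rX_rX, ← rX_rX (hVU y) (inf_le_right : W ⊓ V y ≤ V y), show rX (hVU y) n = t y ^ q from hn y]
  simp only [rX, map_pow]
  refine hadd _ _ _ ?_
  rw [app_rX, app_rX, ht, hw, rZ_rZ, rZ_rZ]

include hadd in
theorem hasNorm (hq : 1 ≤ q) : Nrm.HasNorm ι q := by
  choose n hn hu using existsUnique_norm ι q hadd
  refine ⟨{
    one_le := hq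
    norm := fun U =>
      { toFun := n U
        map_one' := (hu U 1 1 fun V h t ht => ?_).symm
        map_mul' := fun a b => (hu U (a * b) (n U a * n U b) fun V h t ht => ?_).symm }
    norm_res := fun {U V} i s => hu V _ (X.presheaf.map i.op (n U s)) fun W hW t ht => ?_
    norm_app := fun U g => (hu U _ (g ^ q) fun V h t ht => ?_).symm
    norm_mem := fun U s x hx hs => ?_ }⟩
  · rw [rX, map_one, ← one_pow q]
    refine hadd _ _ _ ?_
    rw [ht, rZ, map_one, map_one]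
  · choose LA hLA hmA TA hTA using fun y : V => exists_lift ι a (h y.2)
    choose LB hLB hmB TB hTB using fun y : V => exists_lift ι b (h y.2)
    refine X.sheaf.eq_of_locally_eq' (fun y : V => V ⊓ LA y ⊓ LB y) V
      (fun y => homOfLE (inf_le_left.trans inf_le_left))
      (fun y hy => Opens.mem_iSup.2 ⟨⟨y, hy⟩, ⟨hy, hmA _⟩, hmB _⟩) _ _ fun y => ?_
    obtain ⟨A, hA, ta, hta⟩ : ∃ (A : X.Opens) (hA : A ≤ U) (ta : Γ(X, A)),
        A = LA y ∧ ι.app A ta = rZ ι hA a := ⟨_, hLA y, TA y, rfl, hTA y⟩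
    obtain ⟨B, hB, tb, htb⟩ : ∃ (B : X.Opens) (hB : B ≤ U) (tb : Γ(X, B)),
        B = LB y ∧ ι.app B tb = rZ ι hB b := ⟨_, hLB y, TB y, rfl, hTB y⟩
    obtain ⟨rfl, hta⟩ := hta
    obtain ⟨rfl, htb⟩ := htb
    have h1 : V ⊓ LA y ⊓ LB y ≤ V := inf_le_left.trans inf_le_left
    have h2 : V ⊓ LA y ⊓ LB y ≤ LA y := inf_le_left.trans inf_le_right
    change rX h1 (rX h (n U a * n U b)) = rX h1 (t ^ q)
    have ea := congrArg (rX h2) (hn U a (LA y) hA ta hta)
    have eb := congrArg (rX (inf_le_right : V ⊓ LA y ⊓ LB y ≤ LB y)) (hn U b (LB y) hB tb htb)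
    rw [rX_rX] at ea eb
    rw [rX_rX]
    simp only [rX, map_mul, map_pow] at ea eb ⊢
    rw [ea, eb, ← mul_pow]
    refine hadd _ _ _ ?_
    rw [map_mul, app_rX, app_rX, app_rX, hta, htb, ht, rZ_rZ, rZ_rZ, rZ_rZ]
    simp only [rZ, map_mul]
  · refine (rX_rX i.le hW (n U s)).trans (hn U s W (hW.trans i.le) t (ht.trans ?_))
    exact rZ_rZ ι i.le hW s
  · rw [rX, map_pow]
    refine hadd _ _ _ ?_
    rw [ht, app_rX]
  · obtain ⟨V, hV, hxV, t, ht⟩ := exists_lift ι s hx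
    refine (IsLocalRing.mem_maximalIdeal _).2 fun hu' => (IsLocalRing.mem_maximalIdeal _).1 hs ?_
    have e := congrArg (X.presheaf.germ V (ι x) hxV) (hn U s V hV t ht)
    rw [map_pow, rX, TopCat.Presheaf.germ_res_apply] at e
    change IsUnit (X.presheaf.germ U (ι x) hx (n U s)) at hu'
    rw [e, isUnit_pow_iff (by omega : q ≠ 0)] at hu'
    have h1 := hu'.map (ι.stalkMap x).hom
    rw [Scheme.Hom.germ_stalkMap_apply ι V x hxV t, ht, rZ, TopCat.Presheaf.germ_res_apply] at h1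
    exact h1

theorem exists_bound [IsNoetherian X] :
    ∃ k : ℕ, ∀ (x : X) (z : X.presheaf.stalk x), IsNilpotent z → z ^ k = 0 := by
  classical
  choose V hV hxV hVt using fun x : X =>
    exists_isAffineOpen_mem_and_subset (X := X) (x := x) (U := ⊤) (Opens.mem_top x)
  have hk : ∀ x, ∃ k : ℕ, ∀ z : Γ(X, V x), IsNilpotent z → z ^ k = 0 := fun x => by
    haveI : IsNoetherianRing Γ(X, V x) := IsLocallyNoetherian.component_noetherian ⟨V x, hV x⟩
    obtain ⟨k, hk⟩ := IsNoetherianRing.isNilpotent_nilradical Γ(X, V x)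
    exact ⟨k, fun z hz => by
      have := Ideal.pow_mem_pow (mem_nilradical.2 hz) k
      rwa [hk] at this⟩
  choose k hk using hk
  obtain ⟨T, hT⟩ := isCompact_univ.elim_finite_subcover (fun x => (V x : Set X)) (fun x => (V x).isOpen)
    (fun x _ => Set.mem_iUnion.2 ⟨x, hxV x⟩)
  refine ⟨T.sup k, fun x z hz => ?_⟩
  obtain ⟨i, hi, hxi⟩ := Set.mem_iUnion₂.1 (hT (Set.mem_univ x))
  refine pow_eq_zero_of_le (Finset.le_sup hi) ?_
  letI := TopCat.Presheaf.algebra_section_stalk X.presheaf ⟨x, hxi⟩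
  haveI := (hV i).isLocalization_stalk ⟨x, hxi⟩
  obtain ⟨a, c, rfl⟩ := IsLocalization.exists_mk'_eq ((hV i).primeIdealOf ⟨x, hxi⟩).asIdeal.primeCompl z
  obtain ⟨m, hm⟩ := hz
  rw [← IsLocalization.mk'_pow, IsLocalization.mk'_eq_zero_iff] at hm
  obtain ⟨d, hd⟩ := hm
  have hn : IsNilpotent ((d : Γ(X, V i)) * a) := ⟨m + 1, by
    rw [mul_pow, pow_succ a, pow_succ (d : Γ(X, V i))]
    linear_combination ((d : Γ(X, V i)) ^ m * a) * hd⟩
  rw [← IsLocalization.mk'_pow, IsLocalization.mk'_eq_zero_iff]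
  exact ⟨d ^ k i, by rw [SubmonoidClass.coe_pow, ← mul_pow]; exact hk i _ hn⟩

theorem hasNorm_reduction [IsNoetherian X] {p : ℕ} (hp : p.Prime) (hpX : (p : Γ(X, ⊤)) = 0) :
    ∃ e : ℕ, 0 < e ∧ Nrm.HasNorm X.nilradical.subschemeι (p ^ e) := by
  obtain ⟨k, hk⟩ := exists_bound (X := X)
  refine ⟨k + 1, k.succ_pos, hasNorm _ _ (fun U t t' htt => ?_) (Nat.one_le_pow _ _ hp.pos)⟩
  refine TopCat.Presheaf.section_ext X.sheaf U _ _ fun x hx => ?_
  change X.presheaf.germ U x hx (t ^ p ^ (k + 1)) = X.presheaf.germ U x hx (t' ^ p ^ (k + 1))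
  obtain ⟨W, hW, hxW, hWU⟩ := exists_isAffineOpen_mem_and_subset (X := X) (x := x) (U := U) hx
  have hd : IsNilpotent (rX hWU (t - t')) := by
    refine mem_nilradical.1 ?_
    have h1 : rX hWU (t - t') ∈ RingHom.ker (X.nilradical.subschemeι.app W).hom := by
      rw [RingHom.mem_ker]
      refine (app_rX _ hWU _).trans ?_
      rw [map_sub, htt, sub_self, rZ, map_zero]
    rwa [show RingHom.ker (X.nilradical.subschemeι.app W).hom = _ from
      Scheme.IdealSheafData.ker_subschemeι_app X.nilradical ⟨W, hW⟩] at h1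
  have hd' := hd.map (X.presheaf.germ W x hxW).hom
  rw [TopCat.Presheaf.germ_res_apply, map_sub] at hd'
  obtain ⟨r, hr⟩ := exists_add_pow_prime_pow_eq hp
    (X.presheaf.germ U x hx t') (X.presheaf.germ U x hx t - X.presheaf.germ U x hx t') (k + 1)
  have hp0 : (p : X.presheaf.stalk x) = 0 := by
    rw [← map_natCast (X.presheaf.germ ⊤ x (Opens.mem_top x)).hom, hpX, map_zero]
  rw [add_sub_cancel, hp0, zero_mul, zero_mul, zero_mul, add_zero,
    pow_eq_zero_of_le ((Nat.lt_pow_self hp.one_lt).le.trans' k.le_succ) (hk x _ hd'), add_zero] at hr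
  rw [map_pow, map_pow, hr]

end Groth.Agent.Lib.NormAmple.FrobNorm
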