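import Mathlib.LinearAlgebra.Matrix.Charpoly.Eigs
import Mathlib.RingTheory.IntegralClosure.IsIntegralClosure.Basic
import Mathlib.FieldTheory.IsAlgClosed.Spectrum
import Mathlib.FieldTheory.IsAlgClosed.AlgebraicClosure

/-!
# The characteristic polynomial of a matrix killed by a monic polynomial has integral coefficients
-/

noncomputable section

universe u

open Polynomial Matrix

namespace Groth.Agent.Lib.NormAmple.IntCharpoly

theorem isIntegral_charpoly_coeff {A K : Type u} [CommRing A] [Field K] [Algebra A K] {n : Type*} [Fintype n]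
    [DecidableEq n] (M : Matrix n n K) {p : A[X]} (hp : p.Monic)
    (h : aeval M (p.map (algebraMap A K)) = 0) (i : ℕ) : IsIntegral A (M.charpoly.coeff i) := by
  rcases isEmpty_or_nonempty n with he | hne
  · rw [Matrix.charpoly, Matrix.det_isEmpty]
    rw [coeff_one]
    split_ifs
    · exact isIntegral_one
    · exact isIntegral_zero
  let L := AlgebraicClosure K
  let ι := algebraMap K L
  let N : Matrix n n L := M.map ι
  have hN : aeval N (p.map (algebraMap A L)) = 0 := by
    have h1 := congrArg (Algebra.ofId K L).mapMatrix h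
    rw [map_zero, ← aeval_algHom_apply] at h1
    rw [IsScalarTower.algebraMap_eq A K L, ← Polynomial.map_map, aeval_map_algebraMap]
    exact h1
  have hroots : ∀ μ ∈ N.charpoly.roots, IsIntegral A μ := fun μ hμ => by
    have hs : μ ∈ spectrum L N := mem_spectrum_iff_isRoot_charpoly.2 (isRoot_of_mem_roots hμ)
    have h2 := spectrum.subset_polynomial_aeval N (p.map (algebraMap A L)) ⟨μ, hs, rfl⟩
    rw [hN, spectrum.zero_eq, Set.mem_singleton_iff] at h2
    exact ⟨p, hp, by simpa only [eval_map] using h2⟩
  have hint : IsIntegral A (N.charpoly.coeff i) := by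
    let Ā := integralClosure A L
    have hl : (N.charpoly.roots.map (fun a => X - C a)).prod ∈ Polynomial.lifts (Ā.val : Ā →+* L) := by
      refine multiset_prod_mem (S := Polynomial.lifts (Ā.val : Ā →+* L)) _ fun q hq => ?_
      obtain ⟨a, ha, rfl⟩ := Multiset.mem_map.1 hq
      refine ⟨X - C ⟨a, hroots a ha⟩, ?_⟩
      simp
    rw [← (IsAlgClosed.splits N.charpoly).eq_prod_roots_of_monic N.charpoly_monic] at hl
    obtain ⟨q, hq⟩ := hl
    rw [← hq, Polynomial.coe_mapRingHom, coeff_map]
    exact (q.coeff i).2
  have hc : N.charpoly.coeff i = ι (M.charpoly.coeff i) := by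
    rw [Matrix.charpoly_map, coeff_map]
  rw [hc] at hint
  exact (isIntegral_algHom_iff (IsScalarTower.toAlgHom A K L) ι.injective).1 hint

end Groth.Agent.Lib.NormAmple.IntCharpoly
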