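import Groth.Agent.Lib.NormAmple.GenStalk
import Groth.Agent.Lib.NormAmple.IntCharpoly
import Groth.Agent.Lib.NormAmple.FinFree
import Groth.Agent.Lib.NormAmple.Bundle
import Groth.Agent.Lib.TensorMod.LocFree
import Mathlib.LinearAlgebra.Charpoly.BaseChange

/-!
# The norm of a finite surjection over a reduced base which is normal or locally free at every point

The norm is characterised by its germs at the maximal points of the base.
-/

noncomputable section

universe u

open CategoryTheory CategoryTheory.Limits AlgebraicGeometry Opposite TopologicalSpace Polynomial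

namespace Groth.Agent.Lib.NormAmple.Generic

open TensorMod TensorMod.Basic TensorMod.Dual TensorMod.Gen TensorMod.Pullback Ample.GenLocus Ample.Pow Ample.Extend Ample.Basis NormAmple.Basic NormAmple.GenStalk NormAmple.FinFree

variable {X Y : Scheme.{u}}

theorem eq_of_specializes {y η η' : Y} [IsDomain (Y.presheaf.stalk y)] (hη : IsMaxPt η) (hη' : IsMaxPt η')
    (h : η ⤳ y) (h' : η' ⤳ y) : η = η' := by
  let p : Spec (Y.presheaf.stalk y) := (⟨⊥, Ideal.isPrime_bot⟩ : PrimeSpectrum (Y.presheaf.stalk y))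
  have key : ∀ z : Y, z ⤳ y → Y.fromSpecStalk y p ⤳ z := fun z hz => by
    obtain ⟨q, rfl⟩ : z ∈ Set.range (Y.fromSpecStalk y) := by rw [Scheme.range_fromSpecStalk]; exact hz
    exact ((PrimeSpectrum.le_iff_specializes (⟨⊥, Ideal.isPrime_bot⟩ : PrimeSpectrum (Y.presheaf.stalk y)) q).1
      bot_le).map (Y.fromSpecStalk y).continuous
  rw [← hη _ (key η h), ← hη' _ (key η' h')]

theorem exists_isolated (hfin : Set.Finite {η : Y | IsMaxPt η}) {y η : Y} [IsDomain (Y.presheaf.stalk y)]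
    (hη : IsMaxPt η) (h : η ⤳ y) : ∃ V : Y.Opens, y ∈ V ∧ ∀ η', IsMaxPt η' → η' ∈ V → η' = η := by
  refine ⟨⟨(⋃ η' ∈ {η' : Y | IsMaxPt η' ∧ η' ≠ η}, closure {η'})ᶜ,
    ((hfin.subset fun a ha => ha.1).isClosed_biUnion fun a _ => isClosed_closure).isOpen_compl⟩, ?_, ?_⟩
  · rintro hy
    obtain ⟨a, ha, hay⟩ := Set.mem_iUnion₂.1 hy
    exact ha.2 (eq_of_specializes ha.1 hη (specializes_iff_mem_closure.2 hay) h)
  · intro a ha haV
    by_contra hne
    exact haV (Set.mem_iUnion₂.2 ⟨a, ⟨ha, hne⟩, subset_closure rfl⟩)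

/-- Specialisation of stalks. -/
abbrev σ {η y : Y} (h : η ⤳ y) : Y.presheaf.stalk y →+* Y.presheaf.stalk η := (Y.presheaf.stalkSpecializes h).hom

theorem σ_germ {η y : Y} (h : η ⤳ y) {U : Y.Opens} (hy : y ∈ U) (s : Γ(Y, U)) :
    σ h (Y.presheaf.germ U y hy s) = Y.presheaf.germ U η (h.mem_open U.isOpen hy) s :=
  congr($(TopCat.Presheaf.germ_stalkSpecializes Y.presheaf hy h) s)

theorem σ_injective [IsReduced Y] (hfin : Set.Finite {η : Y | IsMaxPt η}) {y η : Y} [IsDomain (Y.presheaf.stalk y)]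
    (hη : IsMaxPt η) (h : η ⤳ y) : Function.Injective (σ h) := by
  rw [injective_iff_map_eq_zero]
  intro x hx
  obtain ⟨W, hyW, s, rfl⟩ := Y.presheaf.exists_germ_eq x
  obtain ⟨V, hyV, hV⟩ := exists_isolated hfin hη h
  rw [σ_germ] at hx
  have h0 : rf (inf_le_left : W ⊓ V ≤ W) s = 0 := eq_zero_of_germ _ fun a ha haWV => by
    obtain rfl := hV a ha haWV.2
    rw [TopCat.Presheaf.germ_res_apply]
    exact hx
  have hy2 : y ∈ W ⊓ V := ⟨hyW, hyV⟩
  rw [← TopCat.Presheaf.germ_res_apply Y.presheaf (homOfLE (inf_le_left : W ⊓ V ≤ W)) y hy2 s]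
  change Y.presheaf.germ (W ⊓ V) y hy2 (rf (inf_le_left : W ⊓ V ≤ W) s) = 0
  rw [h0, map_zero]

theorem exists_fraction [IsReduced Y] {η y : Y} (hη : IsMaxPt η) (h : η ⤳ y) (z : Y.presheaf.stalk η) :
    ∃ a b : Y.presheaf.stalk y, σ h b ≠ 0 ∧ z * σ h b = σ h a := by
  obtain ⟨V, hV, hyV, -⟩ := exists_isAffineOpen_mem_and_subset (X := Y) (x := y) (U := ⊤) (Opens.mem_top y)
  have hηV : η ∈ V := h.mem_open V.isOpen hyV
  letI := TopCat.Presheaf.algebra_section_stalk Y.presheaf ⟨η, hηV⟩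
  haveI := hV.isLocalization_stalk ⟨η, hηV⟩
  obtain ⟨⟨a, b⟩, hab⟩ := IsLocalization.surj (hV.primeIdealOf ⟨η, hηV⟩).asIdeal.primeCompl z
  haveI := nontrivial_of_ne (0 : Y.presheaf.stalk η) 1 zero_ne_one
  refine ⟨Y.presheaf.germ V y hyV a, Y.presheaf.germ V y hyV b, ?_, ?_⟩
  · rw [σ_germ]
    exact (IsLocalization.map_units (Y.presheaf.stalk η) b).ne_zero
  · rw [σ_germ, σ_germ]
    exact hab

variable (π : X ⟶ Y)

/-- The point is normal or the direct image of the structure sheaf is free near it. -/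
def Good (y : Y) : Prop :=
  (IsDomain (Y.presheaf.stalk y) ∧ IsIntegrallyClosed (Y.presheaf.stalk y)) ∨ ∃ c : Chart π, y ∈ c.W

/-- The characteristic polynomial of multiplication on a generic stalk. -/
def chi (η : Y) [Module.Free (Y.presheaf.stalk η) (B π η)] [Module.Finite (Y.presheaf.stalk η) (B π η)]
    (v : B π η) : (Y.presheaf.stalk η)[X] :=
  (Algebra.lmul (Y.presheaf.stalk η) (B π η) v).charpoly

theorem aeval_chi (η : Y) [Module.Free (Y.presheaf.stalk η) (B π η)] [Module.Finite (Y.presheaf.stalk η) (B π η)]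
    (v : B π η) : aeval v (chi π η v) = 0 := by
  have h := LinearMap.aeval_self_charpoly (Algebra.lmul (Y.presheaf.stalk η) (B π η) v)
  rw [aeval_algHom_apply, ← map_zero (Algebra.lmul (Y.presheaf.stalk η) (B π η))] at h
  exact Algebra.lmul_injective h

theorem nr_eq_chi (η : Y) [Module.Free (Y.presheaf.stalk η) (B π η)] [Module.Finite (Y.presheaf.stalk η) (B π η)]
    (v : B π η) : nr π η v = (-1) ^ rk π η * (chi π η v).coeff 0 := by
  rw [nr, Algebra.norm_apply, LinearMap.det_eq_sign_charpoly_coeff]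
  rfl

theorem exists_lift_chi [IsReduced Y] [IsFinite π] (hfin : Set.Finite {η : Y | IsMaxPt η}) {y η : Y}
    [IsDomain (Y.presheaf.stalk y)] [IsIntegrallyClosed (Y.presheaf.stalk y)]
    (hη : IsMaxPt η) (h : η ⤳ y) [Module.Free (Y.presheaf.stalk η) (B π η)]
    [Module.Finite (Y.presheaf.stalk η) (B π η)] {U : Y.Opens} (hy : y ∈ U) (s : Γ(X, π ⁻¹ᵁ U)) :
    ∃ q : (Y.presheaf.stalk y)[X], q.map (σ h) = chi π η (pg π (h.mem_open U.isOpen hy) s) := by
  classical
  have hηU : η ∈ U := h.mem_open U.isOpen hy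
  set v := pg π hηU s with hv
  obtain ⟨V, hV, hyV, hVU⟩ := exists_isAffineOpen_mem_and_subset (X := Y) (x := y) (U := U) hy
  have hηV : η ∈ V := h.mem_open V.isOpen hyV
  obtain ⟨p, hp, hp0⟩ := (IsFinite.finite_app π V hV).to_isIntegral
    (X.presheaf.map (homOfLE (π.preimage_mono hVU)).op s)
  letI := (isField_stalk hη).toField
  letI algA : Algebra Γ(Y, V) (Y.presheaf.stalk η) := (Y.presheaf.germ V η hηV).hom.toAlgebra
  let b := Module.Free.chooseBasis (Y.presheaf.stalk η) (B π η)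
  have hv0 : aeval v (p.map (algebraMap Γ(Y, V) (Y.presheaf.stalk η))) = 0 := by
    have h1 := congrArg (pg π hηV) hp0
    rw [map_zero, hom_eval₂, pg_res π hVU hηV] at h1
    rw [aeval_def, eval₂_map, ← h1]
    refine congrArg (fun g => eval₂ g v p) (RingHom.ext fun z => ?_)
    exact (pg_app π hηV z).symm
  have hM : aeval (Algebra.leftMulMatrix b v) (p.map (algebraMap Γ(Y, V) (Y.presheaf.stalk η))) = 0 := by
    rw [aeval_algHom_apply, hv0, map_zero]
  have hcoef : ∀ i, (chi π η v).coeff i ∈ Set.range (σ h) := fun i => by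
    have h2 := IntCharpoly.isIntegral_charpoly_coeff (Algebra.leftMulMatrix b v) hp hM i
    have h3 : (Algebra.leftMulMatrix b v).charpoly = chi π η v := by
      rw [← Algebra.toMatrix_lmul_eq]
      exact LinearMap.charpoly_toMatrix _ b
    rw [h3] at h2
    obtain ⟨f, hf, hf0⟩ := h2
    letI algy : Algebra (Y.presheaf.stalk y) (Y.presheaf.stalk η) := (σ h).toAlgebra
    haveI : FaithfulSMul (Y.presheaf.stalk y) (Y.presheaf.stalk η) :=
      (faithfulSMul_iff_algebraMap_injective _ _).2 (σ_injective hfin hη h)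
    haveI : IsFractionRing (Y.presheaf.stalk y) (Y.presheaf.stalk η) := IsFractionRing.of_field _ _ fun z => by
      obtain ⟨a, b', hb, hab⟩ := exists_fraction hη h z
      exact ⟨a, b', (eq_div_iff hb).2 hab⟩
    refine IsIntegrallyClosed.isIntegral_iff.1 ⟨f.map (Y.presheaf.germ V y hyV).hom, hf.map _, ?_⟩
    rw [eval₂_map, ← hf0]
    refine congrArg (fun g => eval₂ g _ f) (RingHom.ext fun z => ?_)
    exact σ_germ h hyV z
  exact (mem_lifts _).1 ((lifts_iff_coeff_lifts _).2 hcoef)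

/-- The germ condition characterising the norm. -/
def Spc (d : ℕ) {U : Y.Opens} (s : Γ(X, π ⁻¹ᵁ U)) (n : Γ(Y, U)) : Prop :=
  ∀ η, IsMaxPt η → ∀ hη : η ∈ U, Y.presheaf.germ U η hη n = nr π η (pg π hη s) ^ (d / rk π η)

variable {π}

theorem Spc.res {d : ℕ} {U V : Y.Opens} {s : Γ(X, π ⁻¹ᵁ U)} {n : Γ(Y, U)} (hn : Spc π d s n) (h : V ≤ U) :
    Spc π d (rf (π.preimage_mono h) s) (rf h n) := fun η hη hηV => by
  rw [TopCat.Presheaf.germ_res_apply, hn η hη (h hηV)]
  exact congrArg (fun v => nr π η v ^ (d / rk π η)) (pg_res π h hηV s).symm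

theorem Spc.unique [IsReduced Y] {d : ℕ} {U : Y.Opens} {s : Γ(X, π ⁻¹ᵁ U)} {n n' : Γ(Y, U)}
    (hn : Spc π d s n) (hn' : Spc π d s n') : n = n' :=
  sub_eq_zero.1 (eq_zero_of_germ _ fun η hη hηU => by rw [map_sub, hn η hη hηU, hn' η hη hηU, sub_self])

/-- The germs of a chart form a basis of the stalk. -/
theorem bij_germ (c : Chart π) {η : Y} (hη : η ∈ c.W) :
    Function.Bijective fun a : Fin c.r → Y.presheaf.stalk η =>
      ∑ k, algebraMap (Y.presheaf.stalk η) (B π η) (a k) * pg π hη (c.b k) := by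
  classical
  have push : ∀ {W : Y.Opens} (hW : W ≤ c.W) (hηW : η ∈ W) (a : Fin c.r → Γ(Y, W)),
      pg π hηW (∑ k, π.app W (a k) * rf (π.preimage_mono hW) (c.b k)) =
        ∑ k, algebraMap (Y.presheaf.stalk η) (B π η) (Y.presheaf.germ W η hηW (a k)) * pg π hη (c.b k) :=
    fun {W} hW hηW a => by
      rw [map_sum]
      refine Finset.sum_congr rfl fun k _ => ?_
      rw [map_mul, pg_app]
      exact congrArg (_ * ·) (pg_res π hW hηW (c.b k))
  constructor
  · intro a a' haa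
    choose W hW f hf using fun k => Y.presheaf.exists_germ_eq (a k - a' k)
    let W₀ : Y.Opens := c.W ⊓ Finset.univ.inf W
    have hηW₀ : η ∈ W₀ := ⟨hη, by
      rw [SetLike.mem_coe, ← SetLike.mem_coe, Opens.coe_finset_inf]
      simpa using fun k => hW k⟩
    have hle : ∀ k, W₀ ≤ W k := fun k => inf_le_right.trans (Finset.inf_le (Finset.mem_univ k))
    let g : Fin c.r → Γ(Y, W₀) := fun k => rf (hle k) (f k)
    have hg : ∀ k, Y.presheaf.germ W₀ η hηW₀ (g k) = a k - a' k := fun k => by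
      rw [TopCat.Presheaf.germ_res_apply]; exact hf k
    have h1 : pg π hηW₀ (∑ k, π.app W₀ (g k) * rf (π.preimage_mono inf_le_left) (c.b k)) = 0 := by
      rw [push inf_le_left hηW₀ g]
      refine Eq.trans (Finset.sum_congr rfl fun k _ => ?_)
        ((Finset.sum_sub_distrib _ _).trans (sub_eq_zero.2 haa))
      rw [← sub_mul, ← map_sub]
      exact congrArg (fun z => algebraMap _ (B π η) z * pg π hη (c.b k)) (hg k)
    rw [← map_zero (pg π hηW₀)] at h1
    obtain ⟨V, hV, hηV, he⟩ := exists_res_eq π hηW₀ h1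
    rw [map_zero] at he
    have h2 : ∑ k, π.app V (rf hV (g k)) * rf (π.preimage_mono (hV.trans inf_le_left)) (c.b k) = 0 := by
      rw [← he, map_sum]
      refine Finset.sum_congr rfl fun k _ => ?_
      rw [map_mul]
      exact congrArg₂ (· * ·) (congr($(π.naturality (homOfLE hV).op) (g k)))
        (rf_rf (π.preimage_mono (inf_le_left : W₀ ≤ c.W)) (π.preimage_mono hV) (c.b k)).symm
    have h3 := (c.bij V (hV.trans inf_le_left)).1 (a₁ := fun k => rf hV (g k)) (a₂ := 0) (by simpa using h2)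
    funext k
    refine sub_eq_zero.1 ?_
    rw [← hg k, ← TopCat.Presheaf.germ_res_apply Y.presheaf (homOfLE hV) η hηV (g k)]
    exact (congrArg (Y.presheaf.germ V η hηV) (congrFun h3 k)).trans (map_zero _)
  · intro v
    obtain ⟨W, hηW, t, rfl⟩ := exists_pg π v
    obtain ⟨a, ha⟩ := (c.bij (W ⊓ c.W) inf_le_right).2 (rf (π.preimage_mono inf_le_left) t)
    have hη2 : η ∈ W ⊓ c.W := ⟨hηW, hη⟩
    refine ⟨fun k => Y.presheaf.germ (W ⊓ c.W) η hη2 (a k), ?_⟩
    beta_reduce at ha ⊢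
    rw [← push inf_le_right hη2 a, ha]
    exact pg_res π inf_le_left hη2 t

/-- The basis of germs. -/
def germBasis (c : Chart π) {η : Y} (hη : η ∈ c.W) : Module.Basis (Fin c.r) (Y.presheaf.stalk η) (B π η) :=
  Module.Basis.ofEquivFun (LinearEquiv.ofBijective
    ({ toFun := fun a => ∑ k, algebraMap (Y.presheaf.stalk η) (B π η) (a k) * pg π hη (c.b k)
       map_add' := fun a a' => by simp only [Pi.add_apply, map_add, add_mul, Finset.sum_add_distrib]
       map_smul' := fun z a => by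
        rw [RingHom.id_apply]
        refine Eq.trans ?_ (Algebra.smul_def z _).symm
        rw [Finset.mul_sum]
        refine Finset.sum_congr rfl fun k _ => ?_
        rw [Pi.smul_apply, smul_eq_mul, map_mul, mul_assoc] } :
      (Fin c.r → Y.presheaf.stalk η) →ₗ[Y.presheaf.stalk η] B π η) (bij_germ c hη)).symm

theorem germBasis_apply (c : Chart π) {η : Y} (hη : η ∈ c.W) (k : Fin c.r) :
    germBasis c hη k = pg π hη (c.b k) := by
  classical
  rw [germBasis, Module.Basis.coe_ofEquivFun, LinearEquiv.symm_symm]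
  change ∑ l, algebraMap _ (B π η) ((Pi.single k 1 : Fin c.r → Y.presheaf.stalk η) l) * pg π hη (c.b l) = _
  rw [Finset.sum_eq_single k]
  · rw [Pi.single_eq_same, map_one, one_mul]
  · intro l _ hl
    rw [Pi.single_eq_of_ne hl, map_zero, zero_mul]
  · exact fun h => (h (Finset.mem_univ k)).elim

theorem germBasis_equivFun_sum (c : Chart π) {η : Y} (hη : η ∈ c.W) (a : Fin c.r → Y.presheaf.stalk η) :
    (germBasis c hη).equivFun (∑ k, algebraMap (Y.presheaf.stalk η) (B π η) (a k) * pg π hη (c.b k)) = a := by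
  rw [germBasis, Module.Basis.equivFun_ofEquivFun]
  exact (LinearEquiv.ofBijective _ (bij_germ c hη)).symm_apply_apply a

theorem rk_chart (c : Chart π) {η : Y} (hη : η ∈ c.W) : rk π η = c.r :=
  (Module.finrank_eq_card_basis (germBasis c hη)).trans (Fintype.card_fin _)

theorem germ_det (c : Chart π) {V : Y.Opens} (h : V ≤ c.W) {η : Y} (hη : η ∈ V) (s : Γ(X, π ⁻¹ᵁ V)) :
    Y.presheaf.germ V η hη (det π V s) = nr π η (pg π hη s) := by
  classical
  letI := alg π V
  change (Y.presheaf.germ V η hη).hom (Algebra.norm Γ(Y, V) s) = Algebra.norm (Y.presheaf.stalk η) (pg π hη s)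
  rw [Algebra.norm_eq_matrix_det (c.basis h), Algebra.norm_eq_matrix_det (germBasis c (h hη))]
  refine ((Y.presheaf.germ V η hη).hom.map_det _).trans (congrArg Matrix.det ?_)
  ext i j
  rw [RingHom.mapMatrix_apply, Matrix.map_apply, Algebra.leftMulMatrix_eq_repr_mul,
    Algebra.leftMulMatrix_eq_repr_mul, c.basis_apply, germBasis_apply]
  have hsum := congrArg (pg π hη) (c.sum_repr h (s * rf (π.preimage_mono h) (c.b j)))
  simp only [map_sum, map_mul, pg_app, rf, pg_res π h hη] at hsum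
  refine Eq.trans ?_ (congrArg (fun w => (germBasis c (h hη)).equivFun w i) hsum)
  rw [germBasis_equivFun_sum]
  rfl

variable (π)

/-- The data for the norm. -/
structure Data where
  /-- the degree -/
  d : ℕ
  pos : 0 < d
  dvd : ∀ η : Y, IsMaxPt η → rk π η ∣ d
  fin : Set.Finite {η : Y | IsMaxPt η}
  good : ∀ y, Good π y
  surj : Function.Surjective π.base

theorem exists_data [IsReduced Y] [IsFinite π] (hfin : Set.Finite {η : Y | IsMaxPt η}) (hgood : ∀ y, Good π y)
    (hsurj : Function.Surjective π.base) : Nonempty (Data π) :=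
  ⟨{ d := ∏ η ∈ hfin.toFinset, rk π η
     pos := Finset.prod_pos fun η hη => rk_pos π (hfin.mem_toFinset.1 hη) (hsurj η)
     dvd := fun η hη => Finset.dvd_prod_of_mem _ (hfin.mem_toFinset.2 hη)
     fin := hfin
     good := hgood
     surj := hsurj }⟩

variable {π}

theorem exists_local [IsReduced Y] [IsFinite π] (D : Data π) {U : Y.Opens} (s : Γ(X, π ⁻¹ᵁ U)) {y : Y}
    (hy : y ∈ U) : ∃ (V : Y.Opens) (h : V ≤ U), y ∈ V ∧ ∃ n, Spc π D.d (rf (π.preimage_mono h) s) n := by
  rcases D.good y with ⟨h1, h2⟩ | ⟨c, hc⟩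
  · haveI := h1; haveI := h2
    obtain ⟨η, hη, hηy⟩ := exists_isMax_specializes y
    letI := (isField_stalk hη).toField
    haveI := finite_B π η
    obtain ⟨q, hq⟩ := exists_lift_chi π D.fin hη hηy hy s
    obtain ⟨W, hyW, n, hn⟩ := Y.presheaf.exists_germ_eq (((-1) ^ rk π η * q.coeff 0) ^ (D.d / rk π η))
    obtain ⟨V₀, hyV₀, hV₀⟩ := exists_isolated D.fin hη hηy
    refine ⟨U ⊓ (W ⊓ V₀), inf_le_left, ⟨hy, hyW, hyV₀⟩, rf (inf_le_right.trans inf_le_left) n, fun a ha haV => ?_⟩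
    obtain rfl := hV₀ a ha haV.2.2
    refine Eq.trans ?_ (congrArg (fun v => nr π a v ^ (D.d / rk π a)) (pg_res π inf_le_left haV s)).symm
    rw [TopCat.Presheaf.germ_res_apply, ← σ_germ hηy hyW n, hn, map_pow, map_mul, map_pow, map_neg, map_one,
      nr_eq_chi, ← hq, coeff_map]
  · refine ⟨U ⊓ c.W, inf_le_left, ⟨hy, hc⟩,
      det π (U ⊓ c.W) (rf (π.preimage_mono inf_le_left) s) ^ (D.d / c.r), fun a _ haV => ?_⟩
    rw [map_pow, germ_det c inf_le_right haV, rk_chart c haV.2]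

theorem exists_spc [IsReduced Y] [IsFinite π] (D : Data π) (U : Y.Opens) (s : Γ(X, π ⁻¹ᵁ U)) :
    ∃ n, Spc π D.d s n := by
  choose V hVU hyV sf hsf using fun y : U => exists_local D s y.2
  obtain ⟨n, hn, -⟩ := Y.sheaf.existsUnique_gluing' V U (fun y => homOfLE (hVU y))
    (fun y hy => Opens.mem_iSup.2 ⟨⟨y, hy⟩, hyV ⟨y, hy⟩⟩) sf fun y z => by
      have h1 := (hsf y).res (inf_le_left : V y ⊓ V z ≤ V y)
      have h2 := (hsf z).res (inf_le_right : V y ⊓ V z ≤ V z)
      rw [rf_rf] at h1 h2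
      exact h1.unique h2
  refine ⟨n, fun η hη hηU => ?_⟩
  have h1 := hsf ⟨η, hηU⟩ η hη (hyV _)
  rw [← show rf (hVU ⟨η, hηU⟩) n = sf ⟨η, hηU⟩ from hn _, TopCat.Presheaf.germ_res_apply] at h1
  rw [h1]
  exact congrArg (fun v => nr π η v ^ (D.d / rk π η)) (pg_res π (hVU ⟨η, hηU⟩) (hyV _) s)

variable [IsReduced Y] [IsFinite π] (D : Data π)

/-- The norm. -/
def nrm (U : Y.Opens) : Γ(X, π ⁻¹ᵁ U) →* Γ(Y, U) where
  toFun s := (exists_spc D U s).choose
  map_one' := (exists_spc D U 1).choose_spec.unique fun η _ hη => by simp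
  map_mul' s t := (exists_spc D U (s * t)).choose_spec.unique fun η hη hηU => by
    rw [map_mul, map_mul, map_mul, mul_pow]
    exact congrArg₂ (· * ·) ((exists_spc D U s).choose_spec η hη hηU) ((exists_spc D U t).choose_spec η hη hηU)

theorem spc_nrm {U : Y.Opens} (s : Γ(X, π ⁻¹ᵁ U)) : Spc π D.d s (nrm D U s) := (exists_spc D U s).choose_spec

theorem nrm_nat {U V : Y.Opens} (h : V ≤ U) (s : Γ(X, π ⁻¹ᵁ U)) :
    rf h (nrm D U s) = nrm D V (rf (π.preimage_mono h) s) :=
  ((spc_nrm D s).res h).unique (spc_nrm D _)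

theorem nrm_app (U : Y.Opens) (g : Γ(Y, U)) : nrm D U (π.app U g) = g ^ D.d :=
  (spc_nrm D _).unique fun η hη hηU => by
    letI := (isField_stalk hη).toField
    rw [map_pow, pg_app, nr, Algebra.norm_algebraMap, ← pow_mul]
    exact congrArg (_ ^ ·) (Nat.mul_div_cancel' (D.dvd η hη)).symm

theorem notMem_of_chart {U : Y.Opens} (s : Γ(X, π ⁻¹ᵁ U)) {x : X} (hx : π x ∈ U) (c : Chart π) (hc : π x ∈ c.W)
    (hs : x ∉ X.basicOpen s) : π x ∉ Y.basicOpen (nrm D U s) := fun hn => by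
  obtain ⟨η, hη, hηy⟩ := exists_isMax_specializes (π x)
  let V : Y.Opens := Y.basicOpen (nrm D U s) ⊓ c.W
  have hVU : V ≤ U := inf_le_left.trans (Y.basicOpen_le _)
  have hxV : π x ∈ V := ⟨hn, hc⟩
  have hu : IsUnit (rf hVU (nrm D U s)) := by
    have h1 := (Y.toRingedSpace.isUnit_res_basicOpen (nrm D U s)).map
      (Y.presheaf.map (homOfLE (inf_le_left : V ≤ _)).op).hom
    exact (rf_rf (Y.basicOpen_le _) (inf_le_left : V ≤ _) (nrm D U s)) ▸ h1
  have he : rf hVU (nrm D U s) = det π V (rf (π.preimage_mono hVU) s) ^ (D.d / c.r) :=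
    ((spc_nrm D s).res hVU).unique fun a _ haV => by rw [map_pow, germ_det c inf_le_right haV, rk_chart c haV.2]
  rw [he] at hu
  have hr := rk_chart c (hηy.mem_open c.W.isOpen hc)
  have hpos : 0 < c.r := hr ▸ rk_pos π hη (D.surj η)
  have hd := (isUnit_pow_iff (Nat.div_pos (Nat.le_of_dvd D.pos (hr ▸ D.dvd η hη)) hpos).ne').1 hu
  have hu' := (isUnit_of_det c inf_le_right hd).map (X.presheaf.germ (π ⁻¹ᵁ V) x hxV).hom
  refine hs ((Scheme.mem_basicOpen X s x hx).2 ?_)
  exact (TopCat.Presheaf.germ_res_apply X.presheaf (homOfLE (π.preimage_mono hVU)) x hxV s) ▸ hu'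

omit [IsReduced Y] [IsFinite π] in
/-- Evaluation of the generic stalk at a point of the fibre. -/
theorem exists_eval (ξ : X) : ∃ φ : B π (π ξ) →+* X.presheaf.stalk ξ,
    φ.comp (algebraMap (Y.presheaf.stalk (π ξ)) (B π (π ξ))) = (π.stalkMap ξ).hom ∧
      ∀ (U : Y.Opens) (h : π ξ ∈ U) (s : Γ(X, π ⁻¹ᵁ U)), φ (pg π h s) = X.presheaf.germ (π ⁻¹ᵁ U) ξ h s := by
  let φ := (TopCat.Presheaf.stalkPushforward CommRingCat π.base X.presheaf ξ).hom
  have hφ : ∀ (U : Y.Opens) (h : π ξ ∈ U) (s : Γ(X, π ⁻¹ᵁ U)),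
      φ (pg π h s) = X.presheaf.germ (π ⁻¹ᵁ U) ξ h s :=
    fun U h s => congr($(TopCat.Presheaf.stalkPushforward_germ CommRingCat π.base X.presheaf U ξ h) s)
  refine ⟨φ, RingHom.ext fun z => ?_, hφ⟩
  obtain ⟨U, hU, g, rfl⟩ := Y.presheaf.exists_germ_eq z
  rw [RingHom.comp_apply, ← pg_app, hφ]
  exact (Scheme.Hom.germ_stalkMap_apply π U ξ hU g).symm

theorem notMem_of_normal {U : Y.Opens} (s : Γ(X, π ⁻¹ᵁ U)) {x ξ : X} [IsDomain (Y.presheaf.stalk (π x))]
    [IsIntegrallyClosed (Y.presheaf.stalk (π x))] (hx : π x ∈ U) (hξ : ξ ⤳ x) (hη : IsMaxPt (π ξ))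
    (hs : x ∉ X.basicOpen s) : π x ∉ Y.basicOpen (nrm D U s) := fun hn => by
  have h : π ξ ⤳ π x := hξ.map π.continuous
  have hξU : π ξ ∈ U := h.mem_open U.isOpen hx
  letI := (isField_stalk hη).toField
  haveI := finite_B π (π ξ)
  obtain ⟨q, hq⟩ := exists_lift_chi π D.fin hη h hx s
  obtain ⟨φ, hφ, hφ'⟩ := exists_eval (π := π) ξ
  -- the polynomial kills the germ at `ξ`
  have h0 := congrArg φ (aeval_chi π (π ξ) (pg π hξU s))
  rw [map_zero, ← hq, aeval_def, eval₂_map, hom_eval₂, hφ'] at h0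
  have h1 : X.presheaf.stalkSpecializes hξ
      (q.eval₂ (π.stalkMap x).hom (X.presheaf.germ (π ⁻¹ᵁ U) x hx s)) = 0 := by
    rw [hom_eval₂, ← h0]
    refine congrArg₂ (fun g a => eval₂ g a q) (RingHom.ext fun z => ?_) ?_
    · rw [← RingHom.comp_assoc, hφ]
      exact (Scheme.Hom.stalkSpecializes_stalkMap_apply π ξ x hξ z).symm
    · exact congr($(TopCat.Presheaf.germ_stalkSpecializes X.presheaf (show x ∈ π ⁻¹ᵁ U from hx) hξ) s)
  have hsx : X.presheaf.germ (π ⁻¹ᵁ U) x hx s ∈ IsLocalRing.maximalIdeal (X.presheaf.stalk x) :=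
    (IsLocalRing.mem_maximalIdeal _).2 fun hu => hs ((Scheme.mem_basicOpen X s x hx).2 hu)
  have hex : X.presheaf.germ (π ⁻¹ᵁ U) x hx s * q.divX.eval₂ (π.stalkMap x).hom (X.presheaf.germ (π ⁻¹ᵁ U) x hx s) +
      π.stalkMap x (q.coeff 0) ∈ IsLocalRing.maximalIdeal (X.presheaf.stalk x) := by
    refine (IsLocalRing.mem_maximalIdeal _).2 fun hu => ?_
    conv_lhs at h1 => rw [← X_mul_divX_add q]
    rw [eval₂_add, eval₂_mul, eval₂_X, eval₂_C] at h1
    have hu' := hu.map (X.presheaf.stalkSpecializes hξ).hom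
    exact not_isUnit_zero (h1 ▸ hu')
  rw [Ideal.add_mem_iff_right _ (Ideal.mul_mem_right _ _ hsx)] at hex
  have hq0 : ¬IsUnit (q.coeff 0) := fun hu => (IsLocalRing.mem_maximalIdeal _).1 hex (hu.map (π.stalkMap x).hom)
  have hgerm : Y.presheaf.germ U (π x) hx (nrm D U s) = ((-1) ^ rk π (π ξ) * q.coeff 0) ^ (D.d / rk π (π ξ)) := by
    refine σ_injective D.fin hη h ?_
    rw [σ_germ, spc_nrm D s _ hη, map_pow, map_mul, map_pow, map_neg, map_one, nr_eq_chi, ← hq, coeff_map]
  have hu := (Scheme.mem_basicOpen Y _ _ hx).1 hn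
  have hpos : 0 < rk π (π ξ) := rk_pos π hη ⟨ξ, rfl⟩
  rw [hgerm, isUnit_pow_iff (Nat.div_pos (Nat.le_of_dvd D.pos (D.dvd _ hη)) hpos).ne', IsUnit.mul_iff] at hu
  exact hq0 hu.2

/-- The pre-norm. -/
def toPreNorm : PreNorm π where
  nrm := nrm D
  nat := nrm_nat D
  mem U s y hy h := by
    rcases D.good y with ⟨h1, h2⟩ | ⟨c, hc⟩
    · obtain ⟨η, hη, hηy⟩ := exists_isMax_specializes y
      obtain ⟨ξ, rfl⟩ := D.surj η
      obtain ⟨x, hx, rfl⟩ : y ∈ π.base '' closure {ξ} :=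
        hηy.mem_closed (π.isClosedMap _ isClosed_closure) ⟨ξ, subset_closure rfl, rfl⟩
      exact @notMem_of_normal _ _ π _ _ D U s x ξ h1 h2 hy (specializes_iff_mem_closure.2 hx) hη (h x rfl)
    · obtain ⟨x, rfl⟩ := D.surj y
      exact notMem_of_chart D s hy c hc (h x rfl)

/-- The norm of degree `d` when generalisations lift. -/
def toNorm (hlift : ∀ x η, IsMaxPt η → η ⤳ π x → ∃ ξ, ξ ⤳ x ∧ π ξ = η) : Nrm.NormOfDegree π D.d where
  one_le := D.pos
  norm := nrm D
  norm_res i s := nrm_nat D i.le s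
  norm_app := nrm_app D
  norm_mem U s x hx hs := by
    refine (IsLocalRing.mem_maximalIdeal _).2 fun hu => ?_
    have hn := (Scheme.mem_basicOpen Y (nrm D U s) (π x) hx).2 hu
    have hs' : x ∉ X.basicOpen s := fun h => (IsLocalRing.mem_maximalIdeal _).1 hs ((Scheme.mem_basicOpen X s x hx).1 h)
    rcases D.good (π x) with ⟨h1, h2⟩ | ⟨c, hc⟩
    · obtain ⟨η, hη, hηy⟩ := exists_isMax_specializes (π x)
      obtain ⟨ξ, hξ, rfl⟩ := hlift x η hη hηy
      exact @notMem_of_normal _ _ π _ _ D U s x ξ h1 h2 hx hξ hη hs' hn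
    · exact notMem_of_chart D s hx c hc hs' hn

/-- Frames for a pullback. -/
theorem exists_frames_pullback {M : Y.Modules} (hM : PicF.IsInvertible M) :
    Nonempty (Frames (toPreNorm D) ((pb π).obj M) (CohB1.tensorPow M D.d)) := by
  choose U e hxU he using isInvertible_iff.1 hM
  exact ⟨{
    ι := Y
    W := U
    cover := fun y => ⟨y, hxU y⟩
    e := fun y => unitSec π M (e y)
    gen := fun y => isGen_unitSec π (he y)
    E := fun y => powSec (e y) D.d
    genE := fun y => isGen_powSec (he y) D.d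
    compat := fun k l V hk hl a ha => by
      obtain ⟨c, hc⟩ := exists_coord ((he k).res hk) (rs M hl (e l))
      have h1 : rs ((pb π).obj M) (π.preimage_mono hl) (unitSec π M (e l)) =
          π.app V c • rs ((pb π).obj M) (π.preimage_mono hk) (unitSec π M (e k)) := by
        refine (unitSec_rs π hl (e l)).trans ?_
        rw [hc, unitSec_smul]
        exact congrArg (π.app V c • ·) (unitSec_rs π hk (e k)).symm
      have hca : π.app V c = a := by
        have hg := ((isGen_unitSec π (he k)).res (π.preimage_mono hk)) _ le_rfl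
        exact hg.1 (by simpa only [rs_self] using h1.symm.trans ha)
      change rs _ hl (powSec (e l) D.d) = nrm D V a • rs _ hk (powSec (e k) D.d)
      rw [rs_powSec, rs_powSec, hc, powSec_smul, ← hca, nrm_app] }⟩

include D in
theorem isAmple_of_pullback {M : Y.Modules}
    (hM : PicF.IsInvertible M) (h : CohB1.IsAmple ((pb π).obj M)) : CohB1.IsAmple M := by
  obtain ⟨F⟩ := exists_frames_pullback D hM
  exact (isAmple_tensorPow_iff hM D.pos).2
    (isAmple_of_frames D.surj F h (Invertible.isInvertible_tensorPow hM D.d))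

end Groth.Agent.Lib.NormAmple.Generic

namespace Groth.Agent.Lib.NormAmple.Generic

open TensorMod

/-- A chart at a point of an open where the direct image is locally free. -/
theorem good_of_restrict {X Y : Scheme.{u}} {π : X ⟶ Y} {y : Y} {T : Y.Opens} (hy : y ∈ T)
    (h : FlatMod.IsFinLocFree (((Coh.push π).obj (Coh.structureModule X)).restrict T.ι)) : Good π y := by
  obtain ⟨U', n, hU', ⟨i⟩⟩ := h ⟨y, hy⟩
  obtain ⟨e, he⟩ := Basis.exists_basis_of_iso (M := (Coh.push π).obj (Coh.structureModule X)) (U := T.ι ''ᵁ U')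
    ((Scheme.Modules.restrictFunctorCongr
        (show (T.ι ''ᵁ U').ι = ((T.ι.isoImage U').inv ≫ U'.ι) ≫ T.ι by
          rw [Category.assoc, Iso.eq_inv_comp, Scheme.Hom.isoImage_hom_ι])).app _ ≪≫
      (Scheme.Modules.restrictFunctorComp ((T.ι.isoImage U').inv ≫ U'.ι) T.ι).app _ ≪≫
      (Scheme.Modules.restrictFunctorComp (T.ι.isoImage U').inv U'.ι).app _ ≪≫
      (Scheme.Modules.restrictFunctor (T.ι.isoImage U').inv).mapIso i ≪≫ LocFree.restrictFreeModIso _ n)
  exact Or.inr ⟨⟨T.ι ''ᵁ U', n, fun k => e k, fun V hV => he V hV⟩, ⟨⟨y, hy⟩, hU', rfl⟩⟩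

end Groth.Agent.Lib.NormAmple.Generic
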